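import Cfsg.Agent.SolvDense.Class

/-!
The induction behind `p ≤ 3 log p · k(G)`.
-/

set_option autoImplicit false
set_option linter.style.haveILetI false
set_option linter.unusedSectionVars false

namespace Cfsg.Agent.SolvDense

open BaseSize SolvBound
open scoped commutatorElement

universe u

/-- Small primes. -/
theorem small_prime {G : Type*} [Group G] [Finite G] {p : ℕ} (hp : p.Prime) (hp97 : p < 97)
    (hdvd : p ∣ Nat.card G) : p ≤ 3 * Nat.log 2 p * kc G := by
  have hk := kc_pos G
  have hpG := Nat.le_of_dvd Nat.card_pos hdvd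
  have h2 : kc G ≤ 2 → Nat.card G ≤ 2 := card_le_two
  have h4 : kc G ≤ 4 → Nat.card G ≤ 42 := card_le_of_kc_le_four
  have hp2 := hp.two_le
  have hlog : ∀ k, 2 ^ k ≤ p → k ≤ Nat.log 2 p := fun k h => Nat.le_log_of_pow_le (by norm_num) h
  have hl1 := hlog 1 (by omega)
  rcases Nat.lt_or_ge p 3 with h | h
  · have := Nat.mul_le_mul (Nat.mul_le_mul_left 3 hl1) hk
    omega
  have hk3 : 3 ≤ kc G := by
    by_contra hc
    have := h2 (by omega)
    omega
  rcases Nat.lt_or_ge p 8 with h8 | h8
  · have := Nat.mul_le_mul (Nat.mul_le_mul_left 3 hl1) hk3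
    omega
  have hl3 := hlog 3 (by omega)
  rcases Nat.lt_or_ge p 28 with h28 | h28
  · have := Nat.mul_le_mul (Nat.mul_le_mul_left 3 hl3) hk3
    omega
  have hl4 := hlog 4 (by omega)
  rcases Nat.lt_or_ge p 37 with h37 | h37
  · have := Nat.mul_le_mul (Nat.mul_le_mul_left 3 hl4) hk3
    omega
  have hl5 := hlog 5 (by omega)
  rcases Nat.lt_or_ge p 43 with h43 | h43
  · have := Nat.mul_le_mul (Nat.mul_le_mul_left 3 hl5) hk3
    omega
  rcases Nat.lt_or_ge p 46 with h46 | h46
  · have := Nat.mul_le_mul (Nat.mul_le_mul_left 3 hl5) hk3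
    omega
  have hk5 : 5 ≤ kc G := by
    by_contra hc
    have := h4 (by omega)
    omega
  rcases Nat.lt_or_ge p 76 with h76 | h76
  · have := Nat.mul_le_mul (Nat.mul_le_mul_left 3 hl5) hk5
    omega
  have hl6 := hlog 6 (by omega)
  have := Nat.mul_le_mul (Nat.mul_le_mul_left 3 hl6) hk5
  rcases Nat.lt_or_ge p 91 with h91 | h91
  · omega
  · exfalso
    interval_cases p <;> revert hp <;> decide

variable {G : Type u} [Group G] [Finite G]

/-- A normal subgroup of order `p` in a soluble group with `p ∣ |F|` and `p² ∤ |G|`. -/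
theorem exists_normal_prime {p : ℕ} (hp : p.Prime) (hF : p ∣ Nat.card (Cfsg.fittingSubgroup G))
    (hG : ¬ p ^ 2 ∣ Nat.card G) :
    ∃ z : G, z ≠ 1 ∧ z ^ p = 1 ∧ ∀ g : G, g * z * g⁻¹ ∈ Subgroup.zpowers z := by
  classical
  haveI := Fact.mk hp
  haveI := Cores.fittingSubgroup_isNilpotent (G := G)
  let F := Cfsg.fittingSubgroup G
  obtain ⟨P⟩ := (inferInstance : Nonempty (Sylow p F))
  have hPn : (P : Subgroup F).Normal :=
    (Group.isNilpotent_of_finite_tfae.out 0 3 rfl rfl).1 inferInstance p inferInstance P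
  haveI : (P : Subgroup F).Characteristic := Sylow.characteristic_of_normal P hPn
  let Q : Subgroup G := (P : Subgroup F).map F.subtype
  haveI : Q.Normal := Cores.normal_map_subtype_of_characteristic _
  have hQc : Nat.card Q = p := by
    have h1 : Nat.card Q = Nat.card (P : Subgroup F) :=
      (Nat.card_congr ((P : Subgroup F).equivMapOfInjective F.subtype F.subtype_injective).toEquiv).symm
    obtain ⟨k, hk⟩ := IsPGroup.iff_card.mp P.2
    have h2 : p ∣ Nat.card (P : Subgroup F) := P.dvd_card_of_dvd_card hF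
    rw [h1]
    rcases Nat.lt_or_ge k 2 with hk2 | hk2
    · rcases Nat.eq_zero_or_pos k with rfl | hk1
      · rw [hk, pow_zero] at h2
        exact absurd (Nat.dvd_one.mp h2) hp.ne_one
      · rw [hk, show k = 1 by omega, pow_one]
    · refine absurd ((pow_dvd_pow p hk2).trans ?_) hG
      rw [← hk, ← h1]
      exact Q.card_subgroup_dvd_card
  haveI : Nontrivial Q := Finite.one_lt_card_iff_nontrivial.mp (hQc ▸ hp.one_lt)
  obtain ⟨z, hz⟩ := exists_ne (1 : Q)
  have htop := zpowers_eq_top_of_prime_card hQc hz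
  refine ⟨z, fun h => hz (Subtype.ext h), ?_, fun g => ?_⟩
  · have := pow_card_eq_one' (x := z)
    rw [hQc] at this
    exact congrArg Subtype.val this
  · obtain ⟨k, hk⟩ := (htop ▸ Subgroup.mem_top _ :
      (⟨g * z * g⁻¹, Subgroup.Normal.conj_mem inferInstance _ z.2 g⟩ : Q) ∈ Subgroup.zpowers z)
    exact ⟨k, congrArg Subtype.val hk⟩

/-- An abelian normal subgroup lies in the Fitting subgroup. -/
theorem le_fitting_of_comm (N : Subgroup G) [N.Normal] (hab : ∀ x ∈ N, ∀ y ∈ N, x * y = y * x) :
    N ≤ Cfsg.fittingSubgroup G := by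
  letI : CommGroup N :=
    { (inferInstance : Group N) with mul_comm := fun x y => Subtype.ext (hab x x.2 y y.2) }
  exact Cores.le_fittingSubgroup inferInstance inferInstance

set_option maxHeartbeats 1000000 in
/-- **The class number bound.** -/
theorem fit_index {p : ℕ} (hp : p.Prime) : ∀ n, ∀ (G : Type u) [Group G] [Finite G],
    Nat.card G = n → Group.IsSolvable G → p ∣ (Cfsg.fittingSubgroup G).index →
    p ≤ 3 * Nat.log 2 p * kc G := by
  intro n
  induction n using Nat.strong_induction_on with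
  | _ n ih =>
  intro G _ _ hn hsol hdvd
  classical
  haveI := hsol
  haveI := Fact.mk hp
  have hpG : p ∣ Nat.card G := hdvd.trans (Subgroup.index_dvd_card _)
  by_cases hp97 : p < 97
  · exact small_prime hp hp97 hpG
  push Not at hp97
  have hl : 1 ≤ Nat.log 2 p := Nat.le_log_of_pow_le (by norm_num) (by omega)
  by_cases hp2 : p ^ 2 ∣ Nat.card G
  · have h := main hp _ G rfl hsol hp2
    calc p ≤ 2 * kc G := by omega
      _ ≤ _ := Nat.mul_le_mul_right _ (by omega)
  haveI : Nontrivial G := Finite.one_lt_card_iff_nontrivial.mp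
    (lt_of_lt_of_le hp.one_lt (Nat.le_of_dvd Nat.card_pos hpG))
  obtain ⟨N, r, a, hN, -, hr, ha, hNc, hNab, -, hNmin⟩ :=
    exists_min_below hsol (⊤ : Subgroup G) top_ne_bot
  haveI := hN
  have hN0 : N ≠ ⊥ := fun h => by
    rw [h, Subgroup.card_bot] at hNc
    exact absurd hNc.symm (Nat.one_lt_pow (by omega) hr.one_lt).ne'
  haveI : Nontrivial N := (Subgroup.nontrivial_iff_ne_bot N).mpr hN0
  have hlt : Nat.card (G ⧸ N) < n := by
    rw [← hn, Subgroup.card_eq_card_quotient_mul_card_subgroup N]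
    exact lt_mul_of_one_lt_right Nat.card_pos Finite.one_lt_card
  by_cases hq : p ∣ (Cfsg.fittingSubgroup (G ⧸ N)).index
  · exact (ih _ hlt (G ⧸ N) rfl inferInstance hq).trans (Nat.mul_le_mul_left _
      (kc_le_of_surjective _ (QuotientGroup.mk'_surjective N)))
  -- `p` divides the order of the group induced on `N`
  let π := QuotientGroup.mk' N
  let Y : Subgroup G := (Cfsg.fittingSubgroup (G ⧸ N)).comap π
  let C : Subgroup G := Subgroup.centralizer (N : Set G)
  haveI : C.Normal := Subgroup.normal_centralizer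
  have hD : (Y ⊓ C) ≤ Cfsg.fittingSubgroup G := by
    refine Cores.le_fittingSubgroup inferInstance ?_
    haveI := Cores.fittingSubgroup_isNilpotent (G := G ⧸ N)
    let f : ↥(Y ⊓ C) →* Cfsg.fittingSubgroup (G ⧸ N) :=
      (π.comp (Y ⊓ C).subtype).codRestrict _ fun x => x.2.1
    refine Subgroup.isNilpotent_of_ker_le_center f (fun x hx => ?_)
    have hxN : (x : G) ∈ N := by
      have : π (x : G) = 1 := congrArg Subtype.val hx
      exact (QuotientGroup.eq_one_iff _).mp this
    rw [Subgroup.mem_center_iff]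
    intro y
    exact Subtype.ext (Subgroup.mem_centralizer_iff.mp y.2.2 _ hxN).symm
  have hpC : p ∣ C.index := by
    have h1 : p ∣ (Y ⊓ C).index := hdvd.trans (Subgroup.index_dvd_of_le hD)
    rw [← Subgroup.relIndex_mul_index (inf_le_left : Y ⊓ C ≤ Y)] at h1
    rcases (Nat.Prime.dvd_mul hp).mp h1 with h | h
    · rw [Subgroup.inf_relIndex_left] at h
      exact h.trans (Subgroup.relIndex_dvd_index_of_normal C Y)
    · refine absurd ?_ hq
      rwa [show Y.index = (Cfsg.fittingSubgroup (G ⧸ N)).index from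
        Subgroup.index_comap_of_surjective _ (QuotientGroup.mk'_surjective N)] at h
  have hrp : r ≠ p := by
    rintro rfl
    have h1 : r ∣ Nat.card (Cfsg.fittingSubgroup G) :=
      ((dvd_pow_self r (by omega)).trans hNc.symm.dvd).trans
        (Subgroup.card_dvd_of_le (le_fitting_of_comm N hNab))
    refine hp2 ?_
    rw [← Subgroup.card_mul_index (Cfsg.fittingSubgroup G), sq]
    exact Nat.mul_dvd_mul h1 hdvd
  letI : CommGroup N :=
    { (inferInstance : Group N) with mul_comm := fun x y => Subtype.ext (hNab x x.2 y y.2) }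
  let φ : G →* MulAut N := MulAut.conjNormal
  have hker : φ.ker = C := by
    ext g
    rw [MonoidHom.mem_ker, Subgroup.mem_centralizer_iff]
    constructor
    · intro h x hx
      have := congrArg Subtype.val (DFunLike.congr_fun h ⟨x, hx⟩)
      rw [MulAut.conjNormal_apply, MulAut.one_apply] at this
      exact (mul_inv_eq_iff_eq_mul.mp this).symm
    · exact fun h => MulEquiv.ext fun x => Subtype.ext (by
        rw [MulAut.conjNormal_apply, MulAut.one_apply, ← h x x.2, mul_inv_cancel_right])
  have hCi : C.index = Nat.card φ.range := by rw [← hker, Subgroup.index_ker]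
  obtain ⟨v, hv1, hv2⟩ := classes_add_le N
  rw [hCi, hNc] at hv2
  let ψ : G ⧸ N →* φ.range := QuotientGroup.lift N φ.rangeRestrict fun x hx => Subtype.ext (by
    show φ x = 1
    rw [← MonoidHom.mem_ker, hker, Subgroup.mem_centralizer_iff]
    exact fun y hy => hNab y hy x hx)
  have hψ : Function.Surjective ψ :=
    QuotientGroup.lift_surjective_of_surjective _ _ φ.rangeRestrict_surjective _
  have hk : kc φ.range ≤ kc (G ⧸ N) := kc_le_of_surjective ψ hψ
  have hHlt : Nat.card φ.range < n := lt_of_le_of_lt (Nat.card_le_card_of_surjective ψ hψ) hlt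
  haveI hHsol : Group.IsSolvable φ.range := solvable_range inferInstance φ
  by_cases hqH : p ∣ (Cfsg.fittingSubgroup φ.range).index
  · exact (ih _ hHlt φ.range rfl hHsol hqH).trans (Nat.mul_le_mul_left _ (by omega))
  have hHdvd : Nat.card φ.range ∣ Nat.card G := hCi ▸ Subgroup.index_dvd_card C
  have hF : p ∣ Nat.card (Cfsg.fittingSubgroup φ.range) := by
    have h : p ∣ Nat.card (Cfsg.fittingSubgroup φ.range) * (Cfsg.fittingSubgroup φ.range).index := by
      rw [Subgroup.card_mul_index, ← hCi]; exact hpC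
    exact ((Nat.Prime.dvd_mul hp).mp h).resolve_right hqH
  obtain ⟨z, hz1, hzp, hznorm⟩ := exists_normal_prime hp hF fun h => hp2 (h.trans hHdvd)
  -- linearise
  have hirrM : ∀ M : Subgroup N, (∀ h ∈ φ.range, ∀ w ∈ M, h w ∈ M) → M = ⊥ ∨ M = ⊤ := by
    intro M hM
    have hn' : (M.map N.subtype).Normal := ⟨fun x hx g => by
      obtain ⟨m, hm, rfl⟩ := hx
      refine ⟨φ g m, hM _ ⟨g, rfl⟩ m hm, ?_⟩
      exact MulAut.conjNormal_apply g m⟩
    rcases hNmin _ hn' (Subgroup.map_subtype_le M) with h | h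
    · exact Or.inl ((Subgroup.map_eq_bot_iff_of_injective _ N.subtype_injective).mp h)
    · refine Or.inr (eq_top_iff.mpr fun x _ => ?_)
      obtain ⟨m, hm, e⟩ : (x : G) ∈ M.map N.subtype := h.symm ▸ x.2
      exact Subtype.ext e ▸ hm
  have hcrm : CRM φ.range := by
    intro M hM
    rcases hirrM M hM with h | h
    · exact ⟨⊤, fun _ _ _ _ => Subgroup.mem_top _, by rw [h, bot_inf_eq], sup_top_eq M⟩
    · refine ⟨⊥, fun g _ w hw => ?_, inf_bot_eq M, by rw [h, sup_bot_eq]⟩
      rw [Subgroup.mem_bot] at hw ⊢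
      rw [hw, map_one]
  obtain ⟨V, _, _, φ', H', e, hadd, hequ, hsol', -⟩ := exists_transport φ.range hHsol hcrm
  have hV : Nat.card V = r ^ a := (Nat.card_congr φ').symm.trans hNc
  haveI : Nontrivial V := φ'.symm.nontrivial
  have h0 : φ' 1 = 0 := by
    have := hadd 1 1
    rwa [one_mul, eq_comm, add_eq_left] at this
  have hirr : Irr H' := by
    intro W hW
    let M : Subgroup N :=
      { carrier := {x | φ' x ∈ W}
        one_mem' := by show φ' 1 ∈ W; rw [h0]; exact W.zero_mem
        mul_mem' := fun {x y} hx hy => by show φ' (x * y) ∈ W; rw [hadd]; exact W.add_mem hx hy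
        inv_mem' := fun {x} hx => by
          show φ' x⁻¹ ∈ W
          have h1 := hadd x⁻¹ x
          rw [inv_mul_cancel, h0] at h1
          rw [eq_neg_of_add_eq_zero_left h1.symm]
          exact W.neg_mem hx }
    rcases hirrM M (fun g hg w hw => by
      show φ' (g w) ∈ W
      rw [hequ ⟨g, hg⟩ w]
      exact hW _ (e ⟨g, hg⟩).2 _ hw) with h | h
    · refine Or.inl ((AddSubgroup.eq_bot_iff_forall W).mpr fun x hx => ?_)
      have : φ'.symm x ∈ M := by show φ' (φ'.symm x) ∈ W; rwa [φ'.apply_symm_apply]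
      rw [h, Subgroup.mem_bot] at this
      rw [← φ'.apply_symm_apply x, this, h0]
    · refine Or.inr ((AddSubgroup.eq_top_iff' W).mpr fun x => ?_)
      have : φ'.symm x ∈ M := h ▸ Subgroup.mem_top _
      rw [← φ'.apply_symm_apply x]
      exact this
  have hz'p : (e z : (AddMonoid.End V)ˣ) ^ p = 1 := by
    rw [← Subgroup.coe_pow, ← map_pow, hzp, map_one, Subgroup.coe_one]
  have hz'1 : (e z : (AddMonoid.End V)ˣ) ≠ 1 := fun h =>
    hz1 (e.injective ((Subtype.ext h).trans (map_one e).symm))
  have hnorm : ∀ h ∈ H', h * (e z : (AddMonoid.End V)ˣ) * h⁻¹ ∈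
      Subgroup.zpowers (e z : (AddMonoid.End V)ˣ) := by
    intro h hh
    obtain ⟨g, hg⟩ := e.surjective ⟨h, hh⟩
    obtain ⟨k, hk⟩ := hznorm g
    refine ⟨k, ?_⟩
    have := congrArg (fun x => ((e x : H') : (AddMonoid.End V)ˣ)) hk
    simpa [hg] using this
  have hvV : Nat.card V ≤ 1 + v * Nat.card H' := by
    rw [hV, ← Nat.card_congr e.toEquiv]; exact hv2
  have hkH : kc H' = kc φ.range :=
    le_antisymm (kc_le_of_surjective e.toMonoidHom e.surjective)
      (kc_le_of_surjective e.symm.toMonoidHom e.symm.surjective)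
  refine (linear_bound hp hp97 hsol' hirr (e z).2 hz'p hz'1 hnorm hvV).trans
    (Nat.mul_le_mul_left _ ?_)
  omega

end Cfsg.Agent.SolvDense
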