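import Mathlib.GroupTheory.CommutingProbability
import Cfsg.Agent.SolvBound.Basic

/-!
Lower bounds `|G| ≤ c · k(G)` for the class number: they pass to subgroups and to products, and
cost the square of the index when passing to overgroups.
-/

set_option autoImplicit false

namespace Cfsg.Agent.SolvDense

open SolvBound (kc)

/-- `|G| ≤ c · k(G)`. -/
def Dn (G : Type*) [Group G] (c : ℕ) : Prop := Nat.card G ≤ c * kc G

theorem pairs_eq (G : Type*) [Group G] :
    Nat.card {p : G × G // Commute p.1 p.2} = kc G * Nat.card G :=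
  card_comm_eq_card_conjClasses_mul_card G

theorem pairs_eq_sum (G : Type*) [Group G] [Fintype G] :
    kc G * Nat.card G = ∑ g : G, Nat.card (Subgroup.centralizer ({g} : Set G)) := by
  rw [← pairs_eq, ← Nat.card_sigma]
  exact Nat.card_congr
    { toFun := fun p => ⟨p.1.1, p.1.2, Subgroup.mem_centralizer_singleton_iff.2 p.2.symm.eq⟩
      invFun := fun z => ⟨(z.1, z.2.1),
        ((show Commute z.2.1 z.1 from Subgroup.mem_centralizer_singleton_iff.1 z.2.2)).symm⟩
      left_inv := fun _ => rfl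
      right_inv := fun _ => rfl }

theorem kc_of_comm {G : Type*} [Group G] [Finite G] (h : ∀ a b : G, a * b = b * a) :
    kc G = Nat.card G := by
  refine (Nat.card_eq_of_bijective ConjClasses.mk ⟨fun a b e => ?_, ConjClasses.mk_surjective⟩).symm
  obtain ⟨c, hc⟩ := isConj_iff.mp (ConjClasses.mk_eq_mk_iff_isConj.mp e)
  rw [← hc, h c a, mul_inv_cancel_right]

/-- `k(X) ≤ [G:X] k(G)`. -/
theorem kc_le_index_mul {G : Type*} [Group G] [Finite G] (X : Subgroup G) :
    kc X ≤ X.index * kc G := by
  refine Nat.le_of_mul_le_mul_right (c := Nat.card X) ?_ Nat.card_pos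
  rw [← pairs_eq, mul_assoc, mul_comm X.index, mul_assoc, Subgroup.card_mul_index, ← pairs_eq]
  exact Nat.card_le_card_of_injective (fun p => ⟨(p.1.1, p.1.2), congrArg Subtype.val p.2.eq⟩)
    fun p q h => Subtype.ext (Prod.ext (Subtype.ext (congrArg (fun z => z.1.1) h))
      (Subtype.ext (congrArg (fun z => z.1.2) h)))

theorem card_centralizer_le {G : Type*} [Group G] [Finite G] (X : Subgroup G) (g : G) :
    Nat.card (Subgroup.centralizer ({g} : Set G)) ≤
      X.index * Nat.card (Subgroup.centralizer ({g} : Set G) ⊓ X : Subgroup G) := by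
  have h1 := (Subgroup.centralizer ({g} : Set G) ⊓ X).card_mul_index
  rw [← (Subgroup.centralizer ({g} : Set G)).card_mul_index] at h1
  have h2 := Subgroup.index_inf_le (H := Subgroup.centralizer ({g} : Set G)) (K := X)
  refine Nat.le_of_mul_le_mul_right ?_ (Nat.pos_of_ne_zero
    (Subgroup.index_ne_zero_of_finite (H := Subgroup.centralizer ({g} : Set G))))
  rw [← h1]
  calc _ ≤ Nat.card (Subgroup.centralizer ({g} : Set G) ⊓ X : Subgroup G) *
        ((Subgroup.centralizer ({g} : Set G)).index * X.index) := Nat.mul_le_mul_left _ h2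
    _ = _ := by ring

/-- `k(G) ≤ [G:X] k(X)`. -/
theorem kc_le_index_mul' {G : Type*} [Group G] [Finite G] (X : Subgroup G) :
    kc G ≤ X.index * kc X := by
  classical
  haveI := Fintype.ofFinite G
  haveI := Fintype.ofFinite X
  let C : G → Subgroup G := fun g => Subgroup.centralizer ({g} : Set G) ⊓ X
  let e : (Σ g : G, C g) ≃ Σ x : X, Subgroup.centralizer ({(x : G)} : Set G) :=
    { toFun := fun z => ⟨⟨z.2.1, z.2.2.2⟩, ⟨z.1, Subgroup.mem_centralizer_singleton_iff.2
        (Subgroup.mem_centralizer_singleton_iff.1 z.2.2.1).symm⟩⟩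
      invFun := fun z => ⟨z.2.1, ⟨z.1.1, Subgroup.mem_centralizer_singleton_iff.2
        (Subgroup.mem_centralizer_singleton_iff.1 z.2.2).symm, z.1.2⟩⟩
      left_inv := fun _ => rfl
      right_inv := fun _ => rfl }
  have h1 : kc G * Nat.card G ≤ X.index * Nat.card (Σ g : G, C g) := by
    rw [pairs_eq_sum, Nat.card_sigma, Finset.mul_sum]
    exact Finset.sum_le_sum fun g _ => card_centralizer_le X g
  have h2 : Nat.card (Σ g : G, C g) ≤ X.index * (kc X * Nat.card X) := by
    rw [Nat.card_congr e, Nat.card_sigma, pairs_eq_sum, Finset.mul_sum]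
    refine Finset.sum_le_sum fun x _ => (card_centralizer_le X x).trans
      (Nat.mul_le_mul_left _ (Nat.card_le_card_of_injective
        (fun y => (⟨⟨y.1, y.2.2⟩, Subgroup.mem_centralizer_singleton_iff.2
          (Subtype.ext (Subgroup.mem_centralizer_singleton_iff.1 y.2.1))⟩ :
          Subgroup.centralizer ({x} : Set X))) fun a b h => Subtype.ext
            (congrArg (fun w => ((w : Subgroup.centralizer ({x} : Set X)) : X).1) h)))
  refine Nat.le_of_mul_le_mul_right (c := Nat.card G) ?_ Nat.card_pos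
  calc kc G * Nat.card G ≤ X.index * (X.index * (kc X * Nat.card X)) :=
        h1.trans (Nat.mul_le_mul_left _ h2)
    _ = X.index * kc X * (Nat.card X * X.index) := by ring
    _ = _ := by rw [Subgroup.card_mul_index]

namespace Dn

variable {G H : Type*} [Group G] [Group H] {a b : ℕ}

theorem mono (h : Dn G a) (hab : a ≤ b) : Dn G b :=
  h.trans (Nat.mul_le_mul_right _ hab)

theorem congr (h : Dn G a) (e : G ≃* H) : Dn H a := by
  show Nat.card H ≤ a * kc H
  rw [← Nat.card_congr e.toEquiv, ← SolvBound.kc_congr e]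
  exact h

theorem subgroup [Finite G] (h : Dn G a) (X : Subgroup G) : Dn X a := by
  refine Nat.le_of_mul_le_mul_right (c := X.index) ?_
    (Nat.pos_of_ne_zero Subgroup.index_ne_zero_of_finite)
  rw [Subgroup.card_mul_index]
  exact h.trans ((Nat.mul_le_mul_left _ (kc_le_index_mul' X)).trans_eq (by ring))

theorem comap [Finite H] (h : Dn H a) (f : G →* H) (hf : Function.Injective f) : Dn G a :=
  (h.subgroup f.range).congr (MonoidHom.ofInjective hf).symm

theorem of_subgroup [Finite G] (X : Subgroup G) (h : Dn X a) : Dn G (a * X.index ^ 2) := by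
  show Nat.card G ≤ _
  rw [← Subgroup.card_mul_index X]
  calc Nat.card X * X.index ≤ a * kc X * X.index := Nat.mul_le_mul_right _ h
    _ ≤ a * (X.index * kc G) * X.index :=
      Nat.mul_le_mul_right _ (Nat.mul_le_mul_left _ (kc_le_index_mul X))
    _ = _ := by ring

theorem of_comm [Finite G] (h : ∀ x y : G, x * y = y * x) : Dn G 1 := by
  rw [Dn, one_mul, kc_of_comm h]

theorem prod [Finite G] [Finite H] (hG : Dn G a) (hH : Dn H b) : Dn (G × H) (a * b) := by
  have e : kc (G × H) * Nat.card (G × H) = (kc G * Nat.card G) * (kc H * Nat.card H) := by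
    rw [← pairs_eq, ← pairs_eq, ← pairs_eq, ← Nat.card_prod]
    exact Nat.card_congr
      { toFun := fun p => (⟨(p.1.1.1, p.1.2.1), congrArg Prod.fst p.2.eq⟩,
          ⟨(p.1.1.2, p.1.2.2), congrArg Prod.snd p.2.eq⟩)
        invFun := fun q => ⟨((q.1.1.1, q.2.1.1), (q.1.1.2, q.2.1.2)),
          Prod.ext q.1.2.eq q.2.2.eq⟩
        left_inv := fun _ => rfl
        right_inv := fun _ => rfl }
  rw [Nat.card_prod] at e
  have hk : kc (G × H) = kc G * kc H := Nat.eq_of_mul_eq_mul_right
    (Nat.mul_pos (Nat.card_pos (α := G)) (Nat.card_pos (α := H))) (by rw [e]; ring)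
  show Nat.card (G × H) ≤ _
  rw [Nat.card_prod, hk]
  exact (Nat.mul_le_mul hG hH).trans_eq (by ring)

theorem pi {ι : Type*} [Fintype ι] {Y : ι → Type*} [∀ i, Group (Y i)] [∀ i, Finite (Y i)]
    (c : ι → ℕ) (h : ∀ i, Dn (Y i) (c i)) : Dn (∀ i, Y i) (∏ i, c i) := by
  classical
  have e : kc (∀ i, Y i) * Nat.card (∀ i, Y i) = ∏ i, (kc (Y i) * Nat.card (Y i)) := by
    simp only [← pairs_eq]
    rw [← Nat.card_pi]
    exact Nat.card_congr
      { toFun := fun p i => ⟨(p.1.1 i, p.1.2 i), congrFun p.2.eq i⟩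
        invFun := fun q => ⟨(fun i => (q i).1.1, fun i => (q i).1.2), funext fun i => (q i).2.eq⟩
        left_inv := fun _ => rfl
        right_inv := fun _ => rfl }
  rw [Nat.card_pi, Finset.prod_mul_distrib] at e
  have hk : kc (∀ i, Y i) = ∏ i, kc (Y i) := Nat.eq_of_mul_eq_mul_right
    (Finset.prod_pos fun i _ => Nat.card_pos) e
  show Nat.card (∀ i, Y i) ≤ _
  rw [Nat.card_pi, hk, ← Finset.prod_mul_distrib]
  exact Finset.prod_le_prod' fun i _ => h i

/-- A jointly injective family. -/
theorem pi_comap {ι : Type*} [Fintype ι] {Y : ι → Type*} [∀ i, Group (Y i)] [∀ i, Finite (Y i)]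
    (c : ι → ℕ) (h : ∀ i, Dn (Y i) (c i)) (f : ∀ i, G →* Y i)
    (hf : ∀ g, (∀ i, f i g = 1) → g = 1) : Dn G (∏ i, c i) :=
  (Dn.pi c h).comap (MonoidHom.pi f) ((injective_iff_map_eq_one _).mpr fun g hg => hf g (congrFun hg))

/-- From the centraliser sum. -/
theorem of_sum [Fintype G] (h : Nat.card G ^ 2 ≤
    a * ∑ g : G, Nat.card (Subgroup.centralizer ({g} : Set G))) : Dn G a := by
  rw [← pairs_eq_sum, ← mul_assoc, sq] at h
  exact Nat.le_of_mul_le_mul_right h Nat.card_pos

end Dn

theorem egypt {a b c : ℕ} (ha : 2 ≤ a) (hb : a ≤ b) (hc : b ≤ c)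
    (h : b * c + a * c + a * b < a * b * c) :
    42 * (b * c + a * c + a * b) ≤ 41 * (a * b * c) := by
  rcases Nat.lt_or_ge a 4 with ha4 | ha4
  swap
  · have h1 : 4 * (b * c) ≤ a * b * c := by rw [mul_assoc a b c]; exact Nat.mul_le_mul_right _ ha4
    have h2 : a * c ≤ b * c := Nat.mul_le_mul_right _ hb
    have h3 : a * b ≤ b * c := (Nat.mul_le_mul hb hc).trans_eq' rfl
    omega
  rcases Nat.lt_or_ge b 7 with hb7 | hb7
  · interval_cases a <;> interval_cases b <;> omega
  · interval_cases a
    · have h1 : 7 * c ≤ b * c := Nat.mul_le_mul_right _ hb7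
      have h2 : b * 7 ≤ b * c := Nat.mul_le_mul_left _ (hb7.trans hc)
      rw [show 2 * b * c = 2 * (b * c) by ring] at h ⊢
      omega
    · have h1 : 7 * c ≤ b * c := Nat.mul_le_mul_right _ hb7
      have h2 : b * 7 ≤ b * c := Nat.mul_le_mul_left _ (hb7.trans hc)
      rw [show 3 * b * c = 3 * (b * c) by ring] at h ⊢
      omega

theorem three_terms_sorted {n x y z : ℕ} (hn : n = 1 + x + y + z) (hxy : y ≤ x) (hyz : z ≤ y)
    (hx : x = 0 ∨ ∃ a, 2 ≤ a ∧ n = a * x)
    (hy : y = 0 ∨ ∃ a, 2 ≤ a ∧ n = a * y) (hz : z = 0 ∨ ∃ a, 2 ≤ a ∧ n = a * z) : n ≤ 42 := by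
  rcases hx with rfl | ⟨a, ha, hax⟩
  · omega
  rcases hy with rfl | ⟨b, hb, hby⟩
  · have : 2 * x ≤ a * x := Nat.mul_le_mul_right _ ha
    omega
  rcases Nat.eq_zero_or_pos x with h0 | h0
  · omega
  rcases Nat.eq_zero_or_pos y with h0' | h0'
  · have : 2 * x ≤ a * x := Nat.mul_le_mul_right _ ha
    omega
  have hab : a ≤ b := Nat.le_of_mul_le_mul_right (by
    calc a * y ≤ a * x := Nat.mul_le_mul_left _ hxy
      _ = b * y := by omega) h0'
  rcases Nat.eq_zero_or_pos z with rfl | h0''
  · rcases Nat.lt_or_ge a 3 with ha3 | ha3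
    · obtain rfl : a = 2 := by omega
      rcases Nat.lt_or_ge b 3 with hb3 | hb3
      · interval_cases b; omega
      · have : 3 * y ≤ b * y := Nat.mul_le_mul_right _ hb3
        omega
    · have : 3 * x ≤ a * x := Nat.mul_le_mul_right _ ha3
      omega
  rcases hz with rfl | ⟨c, hc, hcz⟩
  · omega
  have hbc : b ≤ c := Nat.le_of_mul_le_mul_right (by
    calc b * z ≤ b * y := Nat.mul_le_mul_left _ hyz
      _ = c * z := by omega) h0''
  have key : n * (a * b * c) = a * b * c + n * (b * c + a * c + a * b) := by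
    have e1 : n * (b * c) = x * (a * b * c) := by rw [hax]; ring
    have e2 : n * (a * c) = y * (a * b * c) := by rw [hby]; ring
    have e3 : n * (a * b) = z * (a * b * c) := by rw [hcz]; ring
    calc n * (a * b * c) = (1 + x + y + z) * (a * b * c) := by rw [← hn]
      _ = a * b * c + (x * (a * b * c) + y * (a * b * c) + z * (a * b * c)) := by ring
      _ = _ := by rw [← e1, ← e2, ← e3]; ring
  have habc : 0 < a * b * c := Nat.mul_pos (Nat.mul_pos (by omega) (by omega)) (by omega)
  have hlt : b * c + a * c + a * b < a * b * c := by nlinarith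
  have he := egypt ha hab hbc hlt
  nlinarith

/-- `n = 1 + n/a + n/b + n/c` forces `n ≤ 42`. -/
theorem three_terms {n x y z : ℕ} (hn : n = 1 + x + y + z) (hx : x = 0 ∨ ∃ a, 2 ≤ a ∧ n = a * x)
    (hy : y = 0 ∨ ∃ a, 2 ≤ a ∧ n = a * y) (hz : z = 0 ∨ ∃ a, 2 ≤ a ∧ n = a * z) : n ≤ 42 := by
  rcases Nat.le_total y x with h1 | h1 <;> rcases Nat.le_total z y with h2 | h2 <;>
    rcases Nat.le_total z x with h3 | h3
  · exact three_terms_sorted hn h1 h2 hx hy hz
  · exact three_terms_sorted (x := x) (y := y) (z := z) hn h1 h2 hx hy hz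
  · exact three_terms_sorted (x := x) (y := z) (z := y) (by omega) h3 h2 hx hz hy
  · exact three_terms_sorted (x := z) (y := x) (z := y) (by omega) h3 h1 hz hx hy
  · exact three_terms_sorted (x := y) (y := x) (z := z) (by omega) h1 h3 hy hx hz
  · exact three_terms_sorted (x := y) (y := z) (z := x) (by omega) h2 h3 hy hz hx
  · exact three_terms_sorted (x := z) (y := y) (z := x) (by omega) h2 h1 hz hy hx
  · exact three_terms_sorted (x := z) (y := y) (z := x) (by omega) h2 h1 hz hy hx

/-- At most four classes: the order is at most `42`. -/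
theorem card_le_of_kc_le_four {G : Type*} [Group G] [Finite G] (h : kc G ≤ 4) :
    Nat.card G ≤ 42 := by
  classical
  haveI := Fintype.ofFinite G
  haveI := Fintype.ofFinite (ConjClasses G)
  let f : ConjClasses G → ℕ := fun C => Nat.card C.carrier
  have hsum : ∑ C, f C = Nat.card G := by
    rw [Nat.card_eq_fintype_card, ← sum_conjClasses_card_eq_card G]
    exact Finset.sum_congr rfl fun C _ => (Set.ncard_eq_toFinset_card' _).trans (by rfl)
  let S : Finset (ConjClasses G) := Finset.univ.erase (ConjClasses.mk 1)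
  have h1 : f (ConjClasses.mk 1) = 1 := by
    rw [show f (ConjClasses.mk (1 : G)) = Nat.card (ConjClasses.mk (1 : G)).carrier from rfl,
      show (ConjClasses.mk (1 : G)).carrier = {1} from Set.ext fun y => by
        rw [ConjClasses.mem_carrier_iff_mk_eq, ConjClasses.mk_eq_mk_iff_isConj, isConj_one_left,
          Set.mem_singleton_iff], Nat.card_coe_set_eq, Set.ncard_singleton]
  have hS : ∑ C ∈ S, f C + 1 = Nat.card G := by
    rw [← hsum, ← Finset.sum_erase_add _ f (Finset.mem_univ (ConjClasses.mk 1)), h1]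
  have hcard : S.card ≤ 3 := by
    rw [Finset.card_erase_of_mem (Finset.mem_univ _), Finset.card_univ, ← Nat.card_eq_fintype_card]
    have : Nat.card (ConjClasses G) ≤ 4 := h
    omega
  have hdiv : ∀ C ∈ S, ∃ a, 2 ≤ a ∧ Nat.card G = a * f C := by
    intro C hC
    obtain ⟨g, rfl⟩ := ConjClasses.mk_surjective C
    have e : f (ConjClasses.mk g) = (MulAction.stabilizer (ConjAct G) g).index := by
      rw [MulAction.index_stabilizer, ConjAct.orbit_eq_carrier_conjClasses,
        ← Nat.card_coe_set_eq]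
    have hd : f (ConjClasses.mk g) ∣ Nat.card G := e ▸ Subgroup.index_dvd_card _
    obtain ⟨a, ha⟩ := hd
    refine ⟨a, ?_, ha.trans (mul_comm _ _)⟩
    have hle : f (ConjClasses.mk g) ≤ ∑ C ∈ S, f C :=
      Finset.single_le_sum (fun _ _ => Nat.zero_le _) hC
    rcases Nat.lt_or_ge a 2 with ha2 | ha2
    · interval_cases a <;> omega
    · exact ha2
  interval_cases hk : S.card
  · rw [Finset.card_eq_zero.mp hk, Finset.sum_empty] at hS
    omega
  · obtain ⟨A, hA⟩ := Finset.card_eq_one.mp hk
    rw [hA] at hS hdiv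
    simp only [Finset.sum_singleton] at hS
    exact three_terms (x := f A) (y := 0) (z := 0) (by omega)
      (Or.inr (hdiv A (by simp))) (Or.inl rfl) (Or.inl rfl)
  · obtain ⟨A, B, hne, hA⟩ := Finset.card_eq_two.mp hk
    rw [hA] at hS hdiv
    rw [Finset.sum_pair hne] at hS
    exact three_terms (x := f A) (y := f B) (z := 0) (by omega)
      (Or.inr (hdiv A (by simp))) (Or.inr (hdiv B (by simp))) (Or.inl rfl)
  · obtain ⟨A, B, C, hab, hac, hbc, hA⟩ := Finset.card_eq_three.mp hk
    rw [hA] at hS hdiv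
    rw [Finset.sum_insert (by simp [hab, hac]), Finset.sum_pair hbc] at hS
    exact three_terms (x := f A) (y := f B) (z := f C) (by omega)
      (Or.inr (hdiv A (by simp))) (Or.inr (hdiv B (by simp))) (Or.inr (hdiv C (by simp)))

/-- At most two classes: the order is at most two. -/
theorem card_le_two {G : Type*} [Group G] [Finite G] (h : kc G ≤ 2) : Nat.card G ≤ 2 := by
  classical
  haveI := Fintype.ofFinite G
  by_contra hc
  push Not at hc
  have h1 : ∀ g : G, g ≠ 1 → 2 ≤ Nat.card (Subgroup.centralizer ({g} : Set G)) := fun g hg => by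
    refine Finite.one_lt_card_iff_nontrivial.mpr ⟨⟨1, one_mem _⟩,
      ⟨g, Subgroup.mem_centralizer_singleton_iff.2 rfl⟩, fun e => hg (congrArg Subtype.val e).symm⟩
  have h2 := pairs_eq_sum G
  rw [← Finset.sum_erase_add _ _ (Finset.mem_univ (1 : G))] at h2
  have h3 : Nat.card (Subgroup.centralizer ({(1 : G)} : Set G)) = Nat.card G := by
    rw [(Subgroup.eq_top_iff' (Subgroup.centralizer ({(1 : G)} : Set G))).mpr fun x =>
      Subgroup.mem_centralizer_singleton_iff.2 (by simp), Subgroup.card_top]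
  have h4 := Finset.card_nsmul_le_sum (Finset.univ.erase (1 : G)) _ 2
    (fun g hg => h1 g (Finset.ne_of_mem_erase hg))
  rw [Finset.card_erase_of_mem (Finset.mem_univ _), Finset.card_univ, ← Nat.card_eq_fintype_card,
    smul_eq_mul] at h4
  rw [h3] at h2
  have h5 : kc G * Nat.card G ≤ 2 * Nat.card G := Nat.mul_le_mul_right _ h
  omega

end Cfsg.Agent.SolvDense
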