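import Cfsg.Agent.SolvDense.Basic
import Cfsg.Agent.SolvBound.Prim
import Cfsg.Agent.SolvBound.Tables
import Cfsg.Agent.SolvBound.Order

/-!
Class number bounds from a central subgroup, and the extraspecial case of degree two.
-/

set_option autoImplicit false
set_option linter.style.haveILetI false
set_option linter.unusedSectionVars false

namespace Cfsg.Agent.SolvDense

open SolvBound

variable {X : Type*} [Group X] [Finite X]

/-- If `x, …, x^(m-1)` avoid a central subgroup `U` then `C(x)` has at least `m |U|` elements. -/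
theorem le_card_centralizer (U : Subgroup X) (hU : ∀ g : X, ∀ u ∈ U, g * u = u * g) (x : X)
    (m : ℕ) (hm : ∀ i, 0 < i → i < m → x ^ i ∉ U) :
    m * Nat.card U ≤ Nat.card (Subgroup.centralizer ({x} : Set X)) := by
  refine le_of_eq_of_le (by rw [Nat.card_prod, Nat.card_fin]) (Nat.card_le_card_of_injective
    (fun z : Fin m × U => (⟨x ^ (z.1 : ℕ) * z.2, Subgroup.mem_centralizer_singleton_iff.2 (by
      have h1 : (z.2 : X) * x = x * z.2 := (hU x _ z.2.2).symm
      rw [mul_assoc, h1, ← mul_assoc, ← mul_assoc, ← pow_succ, ← pow_succ'])⟩ :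
      Subgroup.centralizer ({x} : Set X))) ?_)
  have key : ∀ (i j : Fin m) (u v : U), i ≤ j → x ^ (i : ℕ) * u = x ^ (j : ℕ) * v → i = j := by
    intro i j u v hij h
    by_contra hne
    have hlt : (i : ℕ) < j := lt_of_le_of_ne hij (fun e => hne (Fin.ext e))
    refine hm ((j : ℕ) - i) (by omega) (by omega) ?_
    rw [show (j : ℕ) = i + ((j : ℕ) - i) by omega, pow_add, mul_assoc] at h
    rw [mul_left_cancel h |> eq_mul_inv_iff_mul_eq.mpr ∘ Eq.symm]
    exact mul_mem u.2 (inv_mem v.2)
  rintro ⟨i, u⟩ ⟨j, v⟩ h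
  have h' : x ^ (i : ℕ) * (u : X) = x ^ (j : ℕ) * v := congrArg Subtype.val h
  obtain rfl : i = j := (le_total i j).elim (fun hij => key i j u v hij h')
    (fun hji => (key j i v u hji h'.symm).symm)
  exact Prod.ext rfl (Subtype.ext (mul_left_cancel h'))

/-- `k(X) ≥ |U|` for central `U`. -/
theorem Dn.of_central {U : Subgroup X} (hU : ∀ g : X, ∀ u ∈ U, g * u = u * g) {h : ℕ}
    (hh : U.index ≤ h) : Dn X h := by
  have hk : Nat.card U ≤ kc X := by
    refine Nat.card_le_card_of_injective (fun u : U => ConjClasses.mk (u : X)) fun a b e => ?_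
    obtain ⟨g, hg⟩ := isConj_iff.mp (ConjClasses.mk_eq_mk_iff_isConj.mp e)
    rw [hU g _ a.2, mul_inv_cancel_right] at hg
    exact Subtype.ext hg
  show Nat.card X ≤ _
  rw [← Subgroup.card_mul_index U, mul_comm h]
  exact Nat.mul_le_mul hk hh

/-- A central subgroup of index `h` with `h² ≤ c (3 h - 2)`. -/
theorem Dn.of_central_index {U : Subgroup X} (hU : ∀ g : X, ∀ u ∈ U, g * u = u * g) {c : ℕ}
    (hc : U.index ^ 2 + 2 * c ≤ 3 * c * U.index) : Dn X c := by
  classical
  haveI := Fintype.ofFinite X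
  refine Dn.of_sum ?_
  have h1 : ∀ g : X, (if g ∈ U then Nat.card X else 2 * Nat.card U) ≤
      Nat.card (Subgroup.centralizer ({g} : Set X)) := by
    intro g
    by_cases hg : g ∈ U
    · rw [if_pos hg, (Subgroup.eq_top_iff' (Subgroup.centralizer ({g} : Set X))).mpr fun x =>
        Subgroup.mem_centralizer_singleton_iff.2 (hU x g hg), Subgroup.card_top]
    · rw [if_neg hg]
      refine le_card_centralizer U hU g 2 fun i h0 h2 => ?_
      rw [show i = 1 by omega, pow_one]
      exact hg
  refine le_trans ?_ (Nat.mul_le_mul_left c (Finset.sum_le_sum fun g _ => h1 g))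
  rw [Finset.sum_ite, Finset.sum_const, Finset.sum_const, smul_eq_mul, smul_eq_mul]
  have hin : (Finset.univ.filter (· ∈ U)).card = Nat.card U := by
    rw [Nat.card_eq_fintype_card, Fintype.card_subtype]
  have hall := Finset.card_filter_add_card_filter_not (s := (Finset.univ : Finset X)) (· ∈ U)
  rw [hin, Finset.card_univ, ← Nat.card_eq_fintype_card] at hall
  rw [hin]
  have hX : Nat.card U * U.index = Nat.card X := U.card_mul_index
  set u := Nat.card U
  set h := U.index
  set N := (Finset.univ.filter fun a : X => a ∉ U).card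
  have hN : N + u = u * h := by omega
  rw [← hX]
  have e : c * (u * (u * h) + N * (2 * u)) + 2 * c * u ^ 2 = 3 * c * h * u ^ 2 := by
    calc _ = c * (u * (u * h)) + 2 * c * u * (N + u) := by ring
      _ = _ := by rw [hN]; ring
  nlinarith [Nat.mul_le_mul_right (u ^ 2) hc]

variable {G : Type} [Group G] [Finite G] (D : BD G)

theorem act_of_mem {b : G} (hb : b ∈ D.B) : D.act b = 1 := by
  refine MulEquiv.ext fun w => ?_
  obtain ⟨a, rfl⟩ := QuotientGroup.mk_surjective w
  have : D.conjB b a = ⟨b, hb⟩ * a * ⟨b, hb⟩⁻¹ := Subtype.ext (by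
    rw [D.conjB_val]; rfl)
  rw [D.act_mk, this, QuotientGroup.mk_mul, QuotientGroup.mk_mul, mul_comm (QuotientGroup.mk _),
    mul_assoc, ← QuotientGroup.mk_mul, mul_inv_cancel, QuotientGroup.mk_one, mul_one,
    MulAut.one_apply]

/-- `|lin| = |W| |U| |L|`. -/
theorem card_lin : Nat.card D.lin = Nat.card D.W * Nat.card D.U * Nat.card D.linRange := by
  have hk : (D.act.comp D.lin.subtype).ker = D.B.subgroupOf D.lin :=
    le_antisymm D.ker_le fun g hg => act_of_mem D hg
  rw [card_eq_ker_mul_range (D.act.comp D.lin.subtype), hk, ← D.card_B,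
    Nat.card_congr (Subgroup.subgroupOfEquivOfLe D.B_le_lin).toEquiv]
  rfl

theorem index_U (hlin : D.lin = ⊤) : D.U.index = Nat.card D.W * Nat.card D.linRange := by
  refine Nat.eq_of_mul_eq_mul_left (Nat.card_pos (α := D.U)) ?_
  rw [Subgroup.card_mul_index, ← Subgroup.card_top, ← hlin, card_lin]
  ring

theorem exp_two (hW : Nat.card D.W = 2 ^ 2) (w : D.W) : w * w = 1 := by
  rw [← sq]
  exact exp_of_squarefree Nat.prime_two hW D.hn D.pow_eq_one w

/-- The conjugates of an element of `B ∖ U` in degree two. -/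
theorem card_class_le (hlin : D.lin = ⊤) (hW : Nat.card D.W = 2 ^ 2) {g : G} (hg : g ∈ D.B)
    (hgU : g ∉ D.U) : Nat.card G ≤ 6 * Nat.card (Subgroup.centralizer ({g} : Set G)) := by
  classical
  haveI := D.cyclic
  haveI := Fintype.ofFinite G
  haveI := Fintype.ofFinite D.U
  have hc : ∀ x : G, ∀ u ∈ D.U, x * u = u * x := fun x => D.central x (hlin ▸ Subgroup.mem_top x)
  have hsqU : ∀ b : G, b ∈ D.B → b * b ∈ D.U := by
    intro b hb
    have h := exp_two D hW (QuotientGroup.mk (⟨b, hb⟩ : D.B))
    rw [← QuotientGroup.mk_mul, QuotientGroup.eq_one_iff] at h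
    exact h
  let T : Finset D.B := Finset.univ.filter fun x => (x : G) ∉ D.U ∧ (x : G) * x = g * g
  have hT : T.card ≤ 6 := by
    have himg : (T.image fun x => (QuotientGroup.mk x : D.W)).card ≤ 3 := by
      refine (Finset.card_le_card (t := Finset.univ.erase 1) ?_).trans (le_of_eq ?_)
      · intro w hw
        obtain ⟨x, hx, rfl⟩ := Finset.mem_image.mp hw
        refine Finset.mem_erase.mpr ⟨fun e => ?_, Finset.mem_univ _⟩
        exact (Finset.mem_filter.mp hx).2.1 ((QuotientGroup.eq_one_iff x).mp e)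
      · rw [Finset.card_erase_of_mem (Finset.mem_univ _), Finset.card_univ,
          ← Nat.card_eq_fintype_card, hW]
        norm_num
    refine (Finset.card_le_mul_card_image T 2 fun w hw => ?_).trans
      ((Nat.mul_le_mul_left 2 himg).trans le_rfl)
    obtain ⟨r, hr, rfl⟩ := Finset.mem_image.mp hw
    refine le_trans (Finset.card_le_card_of_injOn (fun x : D.B => (r : G)⁻¹ * x)
      (t := (Finset.univ.filter fun v : D.U => v ^ 2 = 1).image Subtype.val) ?_ ?_)
      (Finset.card_image_le.trans (IsCyclic.card_pow_eq_one_le two_pos))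
    · intro x hx
      simp only [Finset.coe_filter, Set.mem_ofPred_eq, T, Finset.mem_filter, Finset.mem_univ,
        true_and] at hx
      simp only [T, Finset.mem_filter, Finset.mem_univ, true_and] at hr
      have hv' : r⁻¹ * x ∈ D.UB := QuotientGroup.eq.mp hx.2.symm
      have hv : (r : G)⁻¹ * x ∈ D.U := hv'
      refine Finset.mem_coe.mpr (Finset.mem_image.mpr ⟨⟨_, hv⟩, Finset.mem_filter.mpr
        ⟨Finset.mem_univ _, Subtype.ext ?_⟩, rfl⟩)
      show ((⟨_, hv⟩ : D.U) ^ 2 : D.U).1 = 1
      rw [sq, Subgroup.coe_mul]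
      show (r : G)⁻¹ * x * ((r : G)⁻¹ * x) = 1
      rw [mul_assoc (r : G)⁻¹ (x : G), hc (x : G) _ hv]
      calc (r : G)⁻¹ * ((r : G)⁻¹ * (x : G) * x) = ((r : G) * r)⁻¹ * ((x : G) * x) := by group
        _ = 1 := by rw [hr.2, hx.1.2, inv_mul_cancel]
    · intro x _ y _ h
      exact Subtype.ext (mul_left_cancel h)
  have hmem : ∀ k : G, k * g * k⁻¹ ∈ D.B := fun k => D.normal.conj_mem g hg k
  have hle : (Subgroup.centralizer ({g} : Set G)).index ≤ 6 := by
    refine le_trans ?_ hT
    rw [Subgroup.index, ← Fintype.card_coe, ← Nat.card_eq_fintype_card]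
    refine Nat.card_le_card_of_injective (fun q => ⟨⟨q.out * g * q.out⁻¹, hmem _⟩, ?_⟩) ?_
    · refine Finset.mem_filter.mpr ⟨Finset.mem_univ _, fun h => hgU ?_, ?_⟩
      · have := D.U_normal.conj_mem _ h q.out⁻¹
        simpa [mul_assoc] using this
      · show q.out * g * q.out⁻¹ * (q.out * g * q.out⁻¹) = g * g
        rw [show q.out * g * q.out⁻¹ * (q.out * g * q.out⁻¹) = q.out * (g * g) * q.out⁻¹ by group,
          hc _ _ (hsqU g hg), mul_inv_cancel_right]
    · intro q q' h
      have h' : q.out * g * q.out⁻¹ = q'.out * g * q'.out⁻¹ :=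
        congrArg (fun z => ((z.1 : D.B) : G)) h
      rw [← q.out_eq, ← q'.out_eq]
      refine QuotientGroup.eq.mpr (Subgroup.mem_centralizer_singleton_iff.2 ?_)
      calc q.out⁻¹ * q'.out * g = q.out⁻¹ * (q'.out * g * q'.out⁻¹) * q'.out := by group
        _ = g * (q.out⁻¹ * q'.out) := by rw [← h']; group
  rw [← Subgroup.card_mul_index (Subgroup.centralizer ({g} : Set G)), mul_comm 6]
  exact Nat.mul_le_mul_left _ hle

/-- Degree two: commuting probability at least `1/6`. -/
theorem dn_six (hlin : D.lin = ⊤) (hW : Nat.card D.W = 2 ^ 2) (hL : Nat.card D.linRange ≤ 6) :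
    Dn G 6 := by
  classical
  haveI := Fintype.ofFinite G
  have hc : ∀ x : G, ∀ u ∈ D.U, x * u = u * x := fun x => D.central x (hlin ▸ Subgroup.mem_top x)
  have hmem : ∀ g : G, g ∈ D.lin := fun g => hlin ▸ Subgroup.mem_top g
  let f : G → ℕ := fun g => Nat.card (Subgroup.centralizer ({g} : Set G))
  -- a moved element of `W` for each non-trivial `σ`
  have hmove : ∀ σ : MulAut D.W, ∃ b : D.B, σ ≠ 1 → σ (b : D.W) ≠ (b : D.W) := by
    intro σ
    by_cases h : σ = 1
    · exact ⟨1, fun h' => absurd h h'⟩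
    · obtain ⟨w, hw⟩ := not_forall.mp fun hh => h (MulEquiv.ext hh)
      obtain ⟨b, rfl⟩ := QuotientGroup.mk_surjective w
      exact ⟨b, fun _ => hw⟩
  choose b hb using hmove
  let Φ : G → G := fun g => g * (b (D.act g) : G)
  have hΦact : ∀ g, D.act (Φ g) = D.act g := fun g => by
    rw [map_mul, act_of_mem D (b _).2, mul_one]
  have hΦinj : Function.Injective Φ := fun g g' h => by
    have : D.act g = D.act g' := by rw [← hΦact, h, hΦact]
    simp only [Φ, this] at h
    exact mul_right_cancel h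
  have hact : ∀ g, g ∉ D.B → D.act g ≠ 1 := fun g hg h => hg (D.mem_B_of_act (hmem g) h)
  have hpair : ∀ g, g ∉ D.B → 6 * Nat.card D.U ≤ f g + f (Φ g) := by
    intro g hg
    have hσ := hact g hg
    have hnU : ∀ x : G, D.act x ≠ 1 → x ∉ D.U := fun x hx h => hx (act_of_mem D (D.U_le_B h))
    have h2 : ∀ x, D.act x = D.act g → 2 * Nat.card D.U ≤ f x := fun x hx =>
      le_card_centralizer D.U hc x 2 fun i h0 hi => by
        rw [show i = 1 by omega, pow_one]; exact hnU x (hx ▸ hσ)
    by_cases hsq : D.act g ^ 2 = 1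
    · have h4 : ∀ x, D.act x = D.act g → x ^ 2 ∉ D.U → 4 * Nat.card D.U ≤ f x := fun x hx hx2 =>
        le_card_centralizer D.U hc x 4 fun i h0 hi => by
          interval_cases i
          · rw [pow_one]; exact hnU x (hx ▸ hσ)
          · exact hx2
          · refine hnU _ ?_
            rw [map_pow, hx, pow_succ, hsq, one_mul]
            exact hσ
      by_cases hg2 : g ^ 2 ∈ D.U
      · have hx2 : Φ g ^ 2 ∉ D.U := by
          intro h
          have h3 := mul_mem (inv_mem hg2) h
          rw [show (g ^ 2)⁻¹ * Φ g ^ 2 =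
            g⁻¹ * (b (D.act g) : G) * g * (b (D.act g) : G) by
              simp only [Φ, sq]; group] at h3
          have e : (QuotientGroup.mk (D.conjB g⁻¹ (b (D.act g)) * b (D.act g)) : D.W) = 1 := by
            refine (QuotientGroup.eq_one_iff _).mpr ?_
            show ((D.conjB g⁻¹ (b (D.act g)) * b (D.act g) : D.B) : G) ∈ D.U
            rw [Subgroup.coe_mul, D.conjB_val, inv_inv]
            exact h3
          rw [QuotientGroup.mk_mul, ← D.act_mk] at e
          have e2 : D.act g⁻¹ (b (D.act g) : D.W) = (b (D.act g) : D.W) :=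
            (eq_inv_of_mul_eq_one_left e).trans (inv_eq_of_mul_eq_one_left (exp_two D hW _))
          refine hb (D.act g) hσ ?_
          have e3 := congrArg (D.act g) e2
          rw [← MulAut.mul_apply, ← map_mul, mul_inv_cancel, map_one, MulAut.one_apply] at e3
          exact e3.symm
        have := h2 g rfl
        have := h4 _ (hΦact g) hx2
        omega
      · have := h4 g rfl hg2
        have := h2 _ (hΦact g)
        omega
    · have h3 : ∀ x, D.act x = D.act g → 3 * Nat.card D.U ≤ f x := fun x hx =>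
        le_card_centralizer D.U hc x 3 fun i h0 hi => by
          interval_cases i
          · rw [pow_one]; exact hnU x (hx ▸ hσ)
          · refine hnU _ ?_
            rw [map_pow, hx]
            exact hsq
      have := h3 g rfl
      have := h3 _ (hΦact g)
      omega
  -- the three parts of the sum
  refine Dn.of_sum ?_
  let S : Finset G := Finset.univ.filter (· ∉ D.B)
  let S1 : Finset G := Finset.univ.filter (· ∈ D.U)
  let S2 : Finset G := Finset.univ.filter fun g => g ∈ D.B ∧ g ∉ D.U
  have hsumS : S.card * (3 * Nat.card D.U) ≤ ∑ g ∈ S, f g := by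
    have he : ∑ g ∈ S, f (Φ g) = ∑ g ∈ S, f g := by
      have himg : S.image Φ = S := Finset.eq_of_subset_of_card_le (by
          intro x hx
          obtain ⟨g, hg, rfl⟩ := Finset.mem_image.mp hx
          refine Finset.mem_filter.mpr ⟨Finset.mem_univ _, fun h => ?_⟩
          exact hact g (Finset.mem_filter.mp hg).2 (hΦact g ▸ act_of_mem D h))
        (Finset.card_image_of_injective S hΦinj).ge
      conv_rhs => rw [← himg, Finset.sum_image fun a _ c _ h => hΦinj h]
    have h6 := Finset.card_nsmul_le_sum S (fun g => f g + f (Φ g)) (6 * Nat.card D.U)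
      fun g hg => hpair g (Finset.mem_filter.mp hg).2
    rw [Finset.sum_add_distrib, he, smul_eq_mul] at h6
    rw [mul_left_comm] at h6 ⊢
    omega
  have hsum1 : S1.card * Nat.card G ≤ ∑ g ∈ S1, f g := by
    refine (smul_eq_mul _ _).symm.trans_le (Finset.card_nsmul_le_sum _ _ _ fun g hg => le_of_eq ?_)
    show _ = f g
    simp only [f]
    rw [(Subgroup.eq_top_iff' (Subgroup.centralizer ({g} : Set G))).mpr fun x =>
      Subgroup.mem_centralizer_singleton_iff.2 (hc x g (Finset.mem_filter.mp hg).2),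
      Subgroup.card_top]
  have hsum2 : S2.card * Nat.card G ≤ 6 * ∑ g ∈ S2, f g := by
    rw [Finset.mul_sum]
    exact (smul_eq_mul _ _).symm.trans_le (Finset.card_nsmul_le_sum _ _ _ fun g hg =>
      card_class_le D hlin hW (Finset.mem_filter.mp hg).2.1 (Finset.mem_filter.mp hg).2.2)
  have htot : ∑ g ∈ S1, f g + ∑ g ∈ S2, f g + ∑ g ∈ S, f g = ∑ g, f g := by
    rw [← Finset.sum_filter_add_sum_filter_not Finset.univ (· ∈ D.B) f, add_left_inj,
      ← Finset.sum_filter_add_sum_filter_not (Finset.univ.filter (· ∈ D.B)) (· ∈ D.U) f,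
      Finset.filter_filter, Finset.filter_filter]
    congr 1
    exact Finset.sum_congr (Finset.filter_congr fun g _ =>
      ⟨fun h => ⟨D.U_le_B h, h⟩, fun h => h.2⟩) fun _ _ => rfl
  have hc1 : S1.card = Nat.card D.U := by
    rw [Nat.card_eq_fintype_card, Fintype.card_subtype]
  have hcB : (Finset.univ.filter (· ∈ D.B)).card = 4 * Nat.card D.U := by
    rw [← Fintype.card_subtype, ← Nat.card_eq_fintype_card, D.card_B, hW]; rfl
  have hc2 : S2.card + Nat.card D.U = 4 * Nat.card D.U := by
    rw [← hcB, ← hc1, ← Finset.card_union_of_disjoint (Finset.disjoint_filter.mpr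
      fun g _ h1 h2 => h1.2 h2)]
    congr 1
    ext g
    simp only [Finset.mem_union, Finset.mem_filter, Finset.mem_univ, true_and]
    exact ⟨fun h => h.elim And.left (fun h => D.U_le_B h), fun h => by tauto⟩
  have hc3 : S.card + 4 * Nat.card D.U = Nat.card G := by
    rw [← hcB, add_comm, Finset.card_filter_add_card_filter_not, Finset.card_univ,
      Nat.card_eq_fintype_card]
  have hG : Nat.card G = Nat.card D.U * (4 * Nat.card D.linRange) := by
    rw [← Subgroup.card_top, ← hlin, card_lin, hW]; ring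
  rw [← htot]
  set u := Nat.card D.U
  set L := Nat.card D.linRange
  set n := Nat.card G
  set A := ∑ g ∈ S1, f g
  set B2 := ∑ g ∈ S2, f g
  set C := ∑ g ∈ S, f g
  rw [hc1] at hsum1
  rw [show S2.card = 3 * u by omega] at hsum2
  have hL1 : 1 ≤ L := Nat.card_pos
  have hS : S.card + 4 * u = n := hc3
  have e : S.card * (3 * u) + 12 * u ^ 2 = 3 * u * n := by
    calc _ = 3 * u * (S.card + 4 * u) := by ring
      _ = _ := by rw [hS]
  have key : (n : ℤ) ^ 2 ≤ 6 * ((u : ℤ) * n) + 3 * u * n + 18 * u * n - 72 * u ^ 2 := by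
    rw [hG]
    push_cast
    have h1 : (1 : ℤ) ≤ L := by exact_mod_cast hL1
    have h2 : (L : ℤ) ≤ 6 := by exact_mod_cast hL
    have h3 : (16 : ℤ) * L ^ 2 - 108 * L + 72 ≤ 0 := by nlinarith
    nlinarith [mul_nonneg (sq_nonneg (u : ℤ)) (neg_nonneg.mpr h3)]
  have : (n : ℤ) ^ 2 ≤ 6 * ((A : ℤ) + B2 + C) := by
    have h1 : ((u : ℤ) * n) ≤ A := by exact_mod_cast hsum1
    have h2 : ((3 * u * n : ℕ) : ℤ) ≤ 6 * (B2 : ℤ) := by exact_mod_cast hsum2
    have h3 : ((S.card * (3 * u) : ℕ) : ℤ) ≤ C := by exact_mod_cast hsumS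
    have e' : ((S.card * (3 * u) : ℕ) : ℤ) + 12 * (u : ℤ) ^ 2 = 3 * u * n := by exact_mod_cast e
    push_cast at h2
    linarith
  exact_mod_cast this

end Cfsg.Agent.SolvDense
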