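import Cfsg.Agent.SolvDense.PrimCentral

/-!
Completely reducible soluble groups with a central element of large prime order acting without
fixed points.
-/

set_option autoImplicit false
set_option linter.style.haveILetI false
set_option linter.unusedSectionVars false

namespace Cfsg.Agent.SolvDense

open BaseSize SolvBound

variable {V : Type} [AddCommGroup V] [Finite V]

/-- **Clifford**: a normal subgroup of an irreducible group is completely reducible. -/
theorem cr_of_normal [Nontrivial V] {H N : Subgroup (AddMonoid.End V)ˣ} (hirr : Irr H)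
    (hnorm : ∀ h ∈ H, ∀ n ∈ N, h⁻¹ * n * h ∈ N) : CR N := by
  classical
  intro U hU
  haveI : Finite (AddSubgroup V) := Finite.of_injective _ SetLike.coe_injective
  let P : AddSubgroup V → Prop := fun X => ∀ n ∈ N, ∀ v ∈ X, n • v ∈ X
  haveI : Nonempty {X : AddSubgroup V // P X ∧ U ⊓ X = ⊥} :=
    ⟨⊥, fun n _ v hv => by rw [AddSubgroup.mem_bot] at hv ⊢; rw [hv, smul_zero], inf_bot_eq U⟩
  obtain ⟨⟨W, hW, hUW⟩, hmax⟩ :=
    Finite.exists_max fun X : {X : AddSubgroup V // P X ∧ U ⊓ X = ⊥} => Nat.card X.1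
  refine ⟨W, hW, hUW, ?_⟩
  haveI : Nonempty {X : AddSubgroup V // P X ∧ X ≠ ⊥} :=
    ⟨⊤, fun _ _ _ _ => trivial, top_ne_bot⟩
  obtain ⟨⟨M, hM, hM0⟩, hmin⟩ :=
    Finite.exists_min fun X : {X : AddSubgroup V // P X ∧ X ≠ ⊥} => Nat.card X.1
  let T : (AddMonoid.End V)ˣ → AddSubgroup V := fun g =>
    M.map (DistribSMul.toAddMonoidHom V g)
  have hT : ∀ g ∈ H, P (T g) := by
    rintro g hg n hn _ ⟨m, hm, rfl⟩
    refine ⟨(g⁻¹ * n * g) • m, hM _ (hnorm g hg n hn) m hm, ?_⟩
    show g • (g⁻¹ * n * g) • m = n • g • m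
    simp only [smul_smul, ← mul_assoc, mul_inv_cancel, one_mul]
  have hsub : ∀ g ∈ H, T g ≤ U ⊔ W := by
    intro g hg
    by_contra hne
    have hI : P (T g ⊓ (U ⊔ W)) := by
      rintro n hn v ⟨hv1, hv2⟩
      refine ⟨hT g hg n hn v hv1, ?_⟩
      obtain ⟨a, ha, b, hb, rfl⟩ := AddSubgroup.mem_sup.mp hv2
      rw [smul_add]
      exact AddSubgroup.mem_sup.mpr ⟨_, hU n hn a ha, _, hW n hn b hb, rfl⟩
    have hIbot : T g ⊓ (U ⊔ W) = ⊥ := by
      by_contra hb
      refine hne (le_trans ?_ (inf_le_right (a := T g)))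
      refine (AddSubgroup.eq_of_le_of_card_ge inf_le_left ?_).ge
      calc Nat.card (T g) ≤ Nat.card M := Nat.card_le_card_of_surjective
            (fun m : M => (⟨g • (m : V), m, m.2, rfl⟩ : T g))
            (by rintro ⟨_, m, hm, rfl⟩; exact ⟨⟨m, hm⟩, rfl⟩)
        _ ≤ _ := hmin ⟨_, hI, hb⟩
    have hTW : P (W ⊔ T g) := by
      intro n hn v hv
      obtain ⟨a, ha, b, hb, rfl⟩ := AddSubgroup.mem_sup.mp hv
      rw [smul_add]
      exact AddSubgroup.mem_sup.mpr ⟨_, hW n hn a ha, _, hT g hg n hn b hb, rfl⟩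
    have hdis : U ⊓ (W ⊔ T g) = ⊥ := by
      refine (AddSubgroup.eq_bot_iff_forall _).mpr fun v hv => ?_
      obtain ⟨w, hw, m, hm, rfl⟩ := AddSubgroup.mem_sup.mp hv.2
      have hmU : m ∈ T g ⊓ (U ⊔ W) := ⟨hm, by
        rw [show m = (w + m) + -w by abel]
        exact (U ⊔ W).add_mem (AddSubgroup.mem_sup_left hv.1) ((U ⊔ W).neg_mem (AddSubgroup.mem_sup_right hw))⟩
      rw [hIbot, AddSubgroup.mem_bot] at hmU
      subst hmU
      rw [add_zero] at hv ⊢
      exact (AddSubgroup.eq_bot_iff_forall _).mp hUW w ⟨hv.1, hw⟩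
    have heq : W = W ⊔ T g := AddSubgroup.eq_of_le_of_card_ge le_sup_left (hmax ⟨_, hTW, hdis⟩)
    exact hne ((le_sup_right.trans heq.ge).trans le_sup_right)
  let S : AddSubgroup V := ⨆ g : H, T g
  have hS : ∀ g ∈ H, ∀ v ∈ S, g • v ∈ S := by
    intro g hg v hv
    have : S.map (DistribSMul.toAddMonoidHom V g) ≤ S := by
      simp only [S]
      rw [AddSubgroup.map_iSup]
      refine iSup_le fun g' => ?_
      refine le_iSup_of_le (⟨g, hg⟩ * g') ?_
      rintro _ ⟨_, ⟨m, hm, rfl⟩, rfl⟩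
      exact ⟨m, hm, mul_smul g (g' : (AddMonoid.End V)ˣ) m⟩
    exact this ⟨v, hv, rfl⟩
  rcases hirr S hS with h | h
  · refine absurd ((AddSubgroup.eq_bot_iff_forall M).mpr fun m hm => ?_) hM0
    have : m ∈ S := (le_iSup (fun g : H => T g) 1) ⟨m, hm, one_smul _ m⟩
    rwa [h, AddSubgroup.mem_bot] at this
  · exact top_le_iff.mp (h ▸ iSup_le fun g : H => hsub g g.2)

/-- A central element of prime order without fixed points fixes every block. -/
theorem fix_block {X : Subgroup (AddMonoid.End V)ˣ} {t : ℕ} (d : Decomp X (Fin t)) {p : ℕ}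
    (hp : p.Prime) {z : (AddMonoid.End V)ˣ} (hzX : z ∈ X) (hzp : z ^ p = 1)
    (hfpf : ∀ v : V, z • v = v → v = 0) (i : Fin t) : d.π ⟨z, hzX⟩ i = i := by
  classical
  by_contra hne
  refine d.nonzero i (DFunLike.ext _ _ fun v => ?_)
  set w := d.p i v with hw
  set g : X := ⟨z, hzX⟩
  have hσp : d.π g ^ p = 1 := by
    rw [← map_pow, show g ^ p = 1 from Subtype.ext hzp, map_one]
  have hu : ∑ k ∈ Finset.range p, z ^ k • w = 0 := by
    refine hfpf _ ?_
    rw [Finset.smul_sum]
    simp only [← mul_smul, ← pow_succ']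
    have h1 : ∑ k ∈ Finset.range (p + 1), z ^ k • w = ∑ k ∈ Finset.range p, z ^ k • w + w := by
      rw [Finset.sum_range_succ, hzp, one_smul]
    rw [Finset.sum_range_succ', pow_zero, one_smul] at h1
    exact add_right_cancel h1
  have hkill : ∀ k ∈ Finset.range p, k ≠ 0 → d.p i (z ^ k • w) = 0 := by
    intro k hk hk0
    have hpow : z ^ k • w = (g ^ k) • d.p i v := by
      rw [hw]; rfl
    rw [hpow, d.smul_p, d.p_p, if_neg]
    intro he
    apply hne
    have he' : (d.π g ^ k) i = i := by rw [← map_pow]; exact he.symm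
    have hco : k.Coprime (orderOf (d.π g)) := by
      refine Nat.Coprime.coprime_dvd_right (orderOf_dvd_of_pow_eq_one hσp) ?_
      exact (hp.coprime_iff_not_dvd.mpr (Nat.not_dvd_of_pos_of_lt (Nat.pos_of_ne_zero hk0)
        (Finset.mem_range.mp hk))).symm
    obtain ⟨m, hm⟩ := exists_pow_eq_self_of_coprime hco
    have : d.π g ∈ MulAction.stabilizer (Equiv.Perm (Fin t)) i :=
      hm ▸ pow_mem (show d.π g ^ k ∈ MulAction.stabilizer (Equiv.Perm (Fin t)) i from he') m
    exact this
  have h2 := congrArg (d.p i) hu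
  rw [map_sum, map_zero, Finset.sum_eq_single_of_mem 0 (Finset.mem_range.mpr hp.pos) hkill,
    pow_zero, one_smul] at h2
  show w = 0
  rwa [hw, d.p_p, if_pos rfl] at h2

/-- The induction hypothesis of the centre bound. -/
def CentreBelow (p n : ℕ) : Prop :=
  ∀ (W : Type) [AddCommGroup W] [Finite W] [Nontrivial W] (X : Subgroup (AddMonoid.End W)ˣ),
    Nat.card W < n → Group.IsSolvable X → CR X → ∀ z ∈ X, (∀ g ∈ X, g * z = z * g) → z ^ p = 1 →
    (∀ v : W, z • v = v → v = 0) → CB z X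

/-- An invariant piece of a completely reducible group. -/
theorem piece {p n : ℕ} (ih : CentreBelow p n) {N : Subgroup (AddMonoid.End V)ˣ}
    (hsol : Group.IsSolvable N) (hcr : CR N) {z : (AddMonoid.End V)ˣ} (hzN : z ∈ N)
    (hzc : ∀ g ∈ N, g * z = z * g) (hzp : z ^ p = 1) (hfpf : ∀ v : V, z • v = v → v = 0)
    (U : AddSubgroup V) (hU : ∀ g : N, ∀ v ∈ U, N.subtype g • v ∈ U) (hU0 : U ≠ ⊥)
    (hlt : Nat.card U < n) :
    ∃ c, Dn (resHom N.subtype U hU).range c ∧
      c * Nat.card (Val ((resHom N.subtype U hU ⟨z, hzN⟩ : (AddMonoid.End U)ˣ) : AddMonoid.End U))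
        ≤ Nat.card U := by
  haveI := (AddSubgroup.nontrivial_iff_ne_bot U).mpr hU0
  refine ih U _ hlt (solvable_range hsol _) (cr_restrict hcr U hU) _ ⟨⟨z, hzN⟩, rfl⟩ ?_ ?_ ?_
  · rintro _ ⟨g, rfl⟩
    rw [← map_mul, ← map_mul]
    exact congrArg _ (Subtype.ext (hzc g g.2))
  · rw [← map_pow, show (⟨z, hzN⟩ : N) ^ p = 1 from Subtype.ext hzp, map_one]
  · intro v hv
    exact Subtype.ext (hfpf v (congrArg Subtype.val hv))

set_option maxHeartbeats 1000000 in
/-- **The centre bound.** -/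
theorem centre_bound {p : ℕ} (hp : p.Prime) (hp97 : 97 ≤ p) : ∀ n, CentreBelow p n := by
  intro n
  induction n with
  | zero => intro W _ _ _ X h; exact absurd h (Nat.not_lt_zero _)
  | succ n ih =>
    intro V _ _ _ X hlt hsol hcr z hzX hzc hzp hfpf
    classical
    rcases Nat.lt_or_ge (Nat.card V) n with h | h
    · exact ih V X h hsol hcr z hzX hzc hzp hfpf
    have hn : Nat.card V = n := by omega
    haveI := finite_End V
    have hz1 : z ≠ 1 := by
      rintro rfl
      obtain ⟨v, hv⟩ := exists_ne (0 : V)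
      exact hv (hfpf v (one_smul _ v))
    by_cases hirr : Irr X
    swap
    · obtain ⟨U, hU, hU0, hU1⟩ : ∃ U : AddSubgroup V,
          (∀ g ∈ X, ∀ v ∈ U, g • v ∈ U) ∧ U ≠ ⊥ ∧ U ≠ ⊤ := by
        by_contra hc
        push Not at hc
        exact hirr fun W hW => or_iff_not_imp_left.mpr (hc W hW)
      obtain ⟨W, hW, hinf, hsup⟩ := hcr U hU
      have hW1 : W ≠ ⊤ := fun h => hU0 (by rwa [h, inf_top_eq] at hinf)
      let Ws : Bool → AddSubgroup V := fun b => if b then U else W
      have hWs : ∀ b, ∀ g : X, ∀ v ∈ Ws b, X.subtype g • v ∈ Ws b := by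
        rintro (_ | _) g v hv
        · exact hW g g.2 v hv
        · exact hU g g.2 v hv
      have hW0 : W ≠ ⊥ := fun h => hU1 (by rwa [h, sup_bot_eq] at hsup)
      have hWs0 : ∀ b, Ws b ≠ ⊥ := by rintro (_ | _) <;> assumption
      have hWs1 : ∀ b, Ws b ≠ ⊤ := by rintro (_ | _) <;> assumption
      have hsmall : ∀ b, Nat.card (Ws b) < n := fun b => hn ▸ lt_of_le_of_ne
        (Nat.card_le_card_of_injective _ Subtype.val_injective) fun h => hWs1 b (AddSubgroup.eq_top_of_card_eq _ h)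
      choose cs hcs hcV using fun b =>
        piece ih hsol hcr hzX hzc hzp hfpf (Ws b) (hWs b) (hWs0 b) (hsmall b)
      have hsum : ∀ v : V, ∃ a b, a ∈ U ∧ b ∈ W ∧ a + b = v := fun v => by
        obtain ⟨a, ha, b, hb, rfl⟩ := AddSubgroup.mem_sup.mp (hsup ▸ AddSubgroup.mem_top v :)
        exact ⟨a, b, ha, hb, rfl⟩
      have hsep : ∀ a b : AddMonoid.End V, (∀ i (w : Ws i), a w = b w) → a = b := by
        intro a b hab
        refine DFunLike.ext _ _ fun v => ?_
        obtain ⟨u, w, hu, hw, rfl⟩ := hsum v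
        rw [map_add, map_add, hab true ⟨u, hu⟩, hab false ⟨w, hw⟩]
      refine ⟨_, Dn.pi_comap cs hcs (fun b => (resHom X.subtype (Ws b) (hWs b)).rangeRestrict) ?_,
        ?_⟩
      · intro g hg
        refine Subtype.ext (Units.ext (hsep _ _ fun b w => ?_))
        show (g : (AddMonoid.End V)ˣ) • (w : V) = w
        exact congrArg Subtype.val ((congrArg (fun u : (AddMonoid.End (Ws b))ˣ => u • w)
          (congrArg Subtype.val (hg b))).trans (one_smul _ w))
      refine (Nat.mul_le_mul_left _ (val_le_prod (z : AddMonoid.End V)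
        (fun b => ((resHom X.subtype (Ws b) (hWs b) ⟨z, hzX⟩ : (AddMonoid.End (Ws b))ˣ) :
          AddMonoid.End (Ws b))) (fun b => (Ws b).subtype) (fun b w => rfl)
        (fun a b hab => hsep a b hab))).trans ?_
      rw [← Finset.prod_mul_distrib]
      refine (Finset.prod_le_prod' fun b _ => hcV b).trans ?_
      rw [Fintype.prod_bool]
      show Nat.card U * Nat.card W ≤ Nat.card V
      rw [← Nat.card_prod]
      refine Nat.card_le_card_of_injective (fun x : U × W => (x.1 : V) + x.2) ?_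
      rintro ⟨a, b⟩ ⟨c, d⟩ h
      have hm : (a : V) - c ∈ U ⊓ W := ⟨U.sub_mem a.2 c.2, by
        rw [show (a : V) - c = d - b by rw [sub_eq_sub_iff_add_eq_add]; exact h.trans (add_comm _ _)]
        exact W.sub_mem d.2 b.2⟩
      rw [hinf, AddSubgroup.mem_bot, sub_eq_zero] at hm
      obtain rfl : a = c := Subtype.ext hm
      exact Prod.ext rfl (Subtype.ext (add_left_cancel h))
    by_cases hno : NoDecomp X
    · exact prim_central hp hp97 hsol hirr hno hzX hzc hzp hz1
    simp only [NoDecomp, not_forall, not_isEmpty_iff] at hno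
    obtain ⟨t, ht, ⟨d⟩⟩ := hno
    haveI : Nonempty (Fin t) := ⟨⟨0, by omega⟩⟩
    haveI := hsol
    let N : Subgroup (AddMonoid.End V)ˣ := d.π.ker.map X.subtype
    have hN : ∀ g ∈ N, ∃ hg : g ∈ X, d.π ⟨g, hg⟩ = 1 := by
      rintro _ ⟨g, hg, rfl⟩
      exact ⟨g.2, hg⟩
    have hNX : N ≤ X := fun g hg => (hN g hg).1
    have hzN : z ∈ N := ⟨⟨z, hzX⟩, Equiv.ext (fix_block d hp hzX hzp hfpf), rfl⟩
    have hNcr : CR N := cr_of_normal hirr fun g hg m hm => by
      obtain ⟨hmX, hm1⟩ := hN m hm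
      refine ⟨(⟨g, hg⟩ : X)⁻¹ * ⟨m, hmX⟩ * ⟨g, hg⟩, ?_, rfl⟩
      show d.π _ = 1
      rw [map_mul, map_mul, hm1, mul_one, map_inv, inv_mul_cancel]
    have hNsol : Group.IsSolvable N :=
      Group.isSolvable_of_isSolvable_injective (Subgroup.inclusion_injective hNX)
    let Ws : Fin t → AddSubgroup V := fun i => AddMonoidHom.range (d.p i)
    have hfix : ∀ i, ∀ v ∈ Ws i, d.p i v = v := by
      rintro i _ ⟨w, rfl⟩
      exact DFunLike.congr_fun (d.idem i) w
    have hmove : ∀ (g : X) (i : Fin t), ∀ v ∈ Ws i, g • v ∈ Ws (d.π g i) := fun g i v hv => by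
      rw [← hfix i v hv, d.smul_p]
      exact ⟨_, rfl⟩
    have hWs : ∀ i, ∀ g : N, ∀ v ∈ Ws i, N.subtype g • v ∈ Ws i := by
      intro i g v hv
      obtain ⟨hgX, hg1⟩ := hN g g.2
      have := hmove ⟨g, hgX⟩ i v hv
      rwa [hg1] at this
    have hWs0 : ∀ i, Ws i ≠ ⊥ := fun i h => d.nonzero i (AddMonoidHom.range_eq_bot_iff.mp h)
    have hle : ∀ i j, Nat.card (Ws i) ≤ Nat.card (Ws j) := fun i j => by
      obtain ⟨g, hg⟩ := d.transitive hirr i j
      exact Nat.card_le_card_of_injective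
        (fun v : Ws i => (⟨g • (v : V), hg ▸ hmove g i v v.2⟩ : Ws j))
        fun v w h => Subtype.ext (MulAction.injective g (congrArg Subtype.val h))
    let e : (∀ i, Ws i) → V := fun x => ∑ i, ((x i : V))
    have hpe : ∀ (x : ∀ i, Ws i) i, d.p i (e x) = x i := fun x i => by
      rw [map_sum, Finset.sum_eq_single i]
      · exact hfix i _ (x i).2
      · intro j _ hj
        rw [← hfix j _ (x j).2, d.p_p, if_neg (Ne.symm hj)]
      · exact fun h => absurd (Finset.mem_univ i) h
    have he : Function.Injective e := fun x y h => funext fun i => Subtype.ext (by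
      rw [← hpe x i, h, hpe y i])
    let i₀ : Fin t := ⟨0, by omega⟩
    have hprod : Nat.card (Ws i₀) ^ t ≤ Nat.card V := by
      refine le_trans ?_ (Nat.card_le_card_of_injective e he)
      rw [Nat.card_pi, ← Fin.prod_const]
      exact Finset.prod_le_prod' fun i _ => hle i₀ i
    have hsmall : ∀ i, Nat.card (Ws i) < n := by
      intro i
      have h2 : 2 ≤ Nat.card (Ws i₀) := by
        haveI := (AddSubgroup.nontrivial_iff_ne_bot _).mpr (hWs0 i₀)
        exact Finite.one_lt_card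
      calc Nat.card (Ws i) ≤ Nat.card (Ws i₀) := hle i i₀
        _ < Nat.card (Ws i₀) ^ t := by
          calc Nat.card (Ws i₀) = Nat.card (Ws i₀) ^ 1 := (pow_one _).symm
            _ < _ := Nat.pow_lt_pow_right h2 ht
        _ ≤ _ := hn ▸ hprod
    choose cs hcs hcV using fun i => piece ih hNsol hNcr hzN (fun g hg => hzc g (hNX hg)) hzp
      hfpf (Ws i) (hWs i) (hWs0 i) (hsmall i)
    have hDN : Dn d.π.ker (∏ i, cs i) := by
      have hD : Dn N (∏ i, cs i) := by
        refine Dn.pi_comap cs hcs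
          (fun i => (resHom N.subtype (Ws i) (hWs i)).rangeRestrict) fun g hg => ?_
        refine Subtype.ext (Units.ext (DFunLike.ext _ _ fun v => ?_))
        show (g : (AddMonoid.End V)ˣ) • v = v
        refine (congrArg ((g : (AddMonoid.End V)ˣ) • ·) (d.apply_total v).symm).trans ?_
        refine Finset.smul_sum.trans (Eq.trans ?_ (d.apply_total v))
        refine Finset.sum_congr rfl fun i _ => ?_
        exact congrArg Subtype.val ((congrArg
          (fun u : (AddMonoid.End (Ws i))ˣ => u • (⟨d.p i v, v, rfl⟩ : Ws i))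
          (congrArg Subtype.val (hg i))).trans (one_smul _ _))
      exact hD.congr (d.π.ker.equivMapOfInjective X.subtype X.subtype_injective).symm
    refine ⟨_, Dn.of_subgroup d.π.ker hDN, ?_⟩
    rw [Subgroup.index_ker]
    have hv : ∀ i, Nat.card (Val (z : AddMonoid.End V)) ≤ Nat.card
        (Val ((resHom N.subtype (Ws i) (hWs i) ⟨z, hzN⟩ : (AddMonoid.End (Ws i))ˣ) :
          AddMonoid.End (Ws i))) := by
      intro i
      refine val_le_piece (z : AddMonoid.End V) _ (Ws i).subtype (fun w => rfl) ?_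
      intro P Q hPQ
      refine DFunLike.ext _ _ fun v => ?_
      rw [← d.apply_total v, map_sum, map_sum]
      refine Finset.sum_congr rfl fun j _ => ?_
      obtain ⟨g, hg⟩ := d.transitive hirr i j
      have hgc : Commute ((g : (AddMonoid.End V)ˣ) : AddMonoid.End V) (z : AddMonoid.End V) :=
        congrArg Units.val (hzc g g.2)
      obtain ⟨w, hw, hwv⟩ : ∃ w ∈ Ws i, g • w = d.p j v := by
        refine ⟨g⁻¹ • d.p j v, ?_, smul_inv_smul g _⟩
        have := hmove g⁻¹ j _ ⟨v, rfl⟩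
        rwa [show d.π g⁻¹ j = i by rw [map_inv, ← hg]; exact Equiv.symm_apply_apply _ _] at this
      rw [← hwv]
      have hP := DFunLike.congr_fun (commute_eval hgc P).eq w
      have hQ := DFunLike.congr_fun (commute_eval hgc Q).eq w
      rw [AddMonoid.End.coe_mul, AddMonoid.End.coe_mul, Function.comp_apply,
        Function.comp_apply] at hP hQ
      refine hP.symm.trans (Eq.trans ?_ hQ)
      exact congrArg _ (hPQ ⟨w, hw⟩)
    have hT := solvable_perm_card_le d.π.range
      (Group.isSolvable_of_surjective d.π.rangeRestrict_surjective)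
    rw [Nat.card_fin] at hT
    set a := Nat.card (Val (z : AddMonoid.End V))
    have ha : 9 ≤ a := le_trans (by omega) (le_card_val hp hzp hz1)
    have hT2 : Nat.card d.π.range ^ 2 ≤ a ^ (t - 1) := by
      refine (Nat.pow_le_pow_left hT 2).trans ?_
      rw [← pow_mul, mul_comm, pow_mul]
      exact Nat.pow_le_pow_left (by omega) _
    calc (∏ i, cs i) * Nat.card d.π.range ^ 2 * a ≤ (∏ i, cs i) * a ^ (t - 1) * a :=
          Nat.mul_le_mul_right _ (Nat.mul_le_mul_left _ hT2)
      _ = (∏ i, cs i) * ∏ _i : Fin t, a := by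
          rw [Fin.prod_const, mul_assoc, ← pow_succ, show t - 1 + 1 = t by omega]
      _ = ∏ i, cs i * a := Finset.prod_mul_distrib.symm
      _ ≤ ∏ _i : Fin t, Nat.card (Ws i₀) := Finset.prod_le_prod' fun i _ =>
          ((Nat.mul_le_mul_left _ (hv i)).trans (hcV i)).trans (hle i i₀)
      _ ≤ _ := by rw [Fin.prod_const]; exact hprod

end Cfsg.Agent.SolvDense
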