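import Cfsg.Agent.SolvDense.Main
import Mathlib.GroupTheory.Sylow

/-!
`49 p ≤ 60 k(G)` for a soluble group whose order is divisible by `p²`.
-/

set_option autoImplicit false
set_option linter.style.haveILetI false
set_option linter.unusedSectionVars false
set_option linter.unusedTactic false
set_option linter.unreachableTactic false
set_option linter.unusedSimpArgs false

namespace Cfsg.Agent.SolvDense

open SolvBound (kc)
open scoped commutatorElement

theorem le_of_four_mul {k v p : ℕ} (h : 2401 * p ^ 2 ≤ 14400 * (k * v)) :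
    49 * p ≤ 60 * (k + v) := by
  refine (Nat.pow_le_pow_iff_left two_ne_zero).mp ?_
  zify at h ⊢
  nlinarith [sq_nonneg ((k : ℤ) - v)]

theorem six_case {p k v x m : ℕ} (hp : p.Prime) (hp11 : 11 ≤ p) (hk : x ≤ 6 * k)
    (hv : p ^ 2 ≤ 1 + v * x) (hm : x * m = 24 * (p - 1)) : 49 * p ≤ 60 * (k + v) := by
  obtain ⟨q, rfl⟩ : ∃ q, p = q + 1 := ⟨p - 1, by omega⟩
  rw [Nat.add_sub_cancel] at hm
  have hm0 : 1 ≤ m := by
    rcases Nat.eq_zero_or_pos m with rfl | h
    · rw [mul_zero] at hm; omega
    · exact h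
  have h1 : 240 * q ≤ 60 * (k * m) := by
    calc 240 * q = 10 * (x * m) := by omega
      _ ≤ 10 * (6 * k * m) := Nat.mul_le_mul_left _ (Nat.mul_le_mul_right _ hk)
      _ = _ := by ring
  have h2 : (q + 2) * m ≤ 24 * v := by
    refine Nat.le_of_mul_le_mul_left (c := q) ?_ (by omega)
    calc q * ((q + 2) * m) = (q ^ 2 + 2 * q) * m := by ring
      _ ≤ v * x * m := Nat.mul_le_mul_right _ (by nlinarith)
      _ = v * (x * m) := by ring
      _ = _ := by rw [hm]; ring
  by_cases h9 : m = 9 ∧ q + 1 < 25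
  · obtain ⟨rfl, h25⟩ := h9
    have hq24 : q < 24 := by omega
    interval_cases q <;> first | omega | (exfalso; revert hp; decide)
  refine Nat.le_of_mul_le_mul_left (c := 2 * m) ?_ (by omega)
  have h3 : m * (5 * ((q + 2) * m)) ≤ m * (5 * (24 * v)) :=
    Nat.mul_le_mul_left _ (Nat.mul_le_mul_left _ h2)
  rcases Nat.lt_or_ge m 10 with h10 | h10
  · interval_cases m <;> omega
  · zify at h1 h2 h3 h10 ⊢
    nlinarith [mul_nonneg (mul_nonneg (show (0 : ℤ) ≤ 5 * m - 48 by linarith)
      (show (0 : ℤ) ≤ m - 10 by linarith)) (show (0 : ℤ) ≤ q by positivity)]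

theorem final_ineq {H : Type*} [Group H] [Finite H] {p a v : ℕ} (hp : p.Prime) (ha : 2 ≤ a)
    (hG : Good p a H) (hv : p ^ a ≤ 1 + v * Nat.card H) : 49 * p ≤ 60 * (kc H + v) := by
  have hk := SolvBound.kc_pos H
  obtain ⟨c, hc, -, h2, h3⟩ := hG
  have hpa : p ^ 2 ≤ p ^ a := Nat.pow_le_pow_right hp.pos ha
  have h4 : 4 ≤ p ^ 2 := Nat.pow_le_pow_left hp.two_le 2
  have hv1 : 1 ≤ v := by
    rcases Nat.eq_zero_or_pos v with rfl | h
    · omega
    · exact h
  rcases Nat.lt_or_ge p 11 with hsmall | hbig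
  · have hk2 : kc H ≤ 2 → Nat.card H ≤ 2 := card_le_two
    have hk4 : kc H ≤ 4 → Nat.card H ≤ 42 := card_le_of_kc_le_four
    have hc6 : a = 2 → Nat.card H ≤ 6 * kc H := fun h => hc.trans (Nat.mul_le_mul_right _
      ((h2 h).elim (fun h' => by omega) And.left))
    rcases Nat.lt_or_ge (kc H) 3 with hk3 | hk3
    · have := hk2 (by omega)
      have h' : v * Nat.card H ≤ v * 2 := Nat.mul_le_mul_left _ this
      interval_cases p <;> first | omega | (exfalso; revert hp; decide)
    rcases Nat.lt_or_ge (kc H) 5 with hk5 | hk5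
    swap
    · interval_cases p <;> first | omega | (exfalso; revert hp; decide)
    rcases Nat.lt_or_ge a 3 with ha3 | ha3
    · obtain rfl : a = 2 := by omega
      have h' : v * Nat.card H ≤ v * (6 * kc H) := Nat.mul_le_mul_left _ (hc6 rfl)
      generalize kc H = k at *
      interval_cases k <;> interval_cases p <;> first | omega | (exfalso; revert hp; decide)
    · have hpa3 : p ^ 3 ≤ p ^ a := Nat.pow_le_pow_right hp.pos ha3
      have h' : v * Nat.card H ≤ v * 42 := Nat.mul_le_mul_left _ (hk4 (by omega))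
      interval_cases p <;> first | omega | (exfalso; revert hp; decide)
  have hvc : ∀ c', Nat.card H ≤ c' * kc H → p ^ a ≤ 1 + c' * (kc H * v) := fun c' h => by
    have := Nat.mul_le_mul_left v h
    rw [show c' * (kc H * v) = v * (c' * kc H) by ring]
    omega
  rcases Nat.lt_or_ge a 3 with ha3 | ha3
  · obtain rfl : a = 2 := by omega
    rcases h2 rfl with hc4 | ⟨hc6, m, hm⟩
    · apply le_of_four_mul
      have := hvc 4 (hc.trans (Nat.mul_le_mul_right _ hc4))
      have : 121 ≤ p ^ 2 := Nat.pow_le_pow_left hbig 2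
      omega
    · exact six_case hp hbig (hc.trans (Nat.mul_le_mul_right _ hc6)) hv hm.symm
  · apply le_of_four_mul
    have hcb := h3 ha3 hbig
    have h1 := hvc c hc
    set P := p ^ (a - 2)
    have hP : 0 < P := Nat.pow_pos hp.pos
    have hpP : p ^ a = P * p ^ 2 := by rw [← pow_add]; congr 1; omega
    have h1331 : 1331 ≤ p ^ a := (Nat.pow_le_pow_left hbig 3).trans
      (Nat.pow_le_pow_right hp.pos ha3)
    refine Nat.le_of_mul_le_mul_left (c := 29 * P) ?_ (by omega)
    have h5 : 5 * (c * (kc H * v)) ≤ 29 * P * (kc H * v) := by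
      rw [← mul_assoc]; exact Nat.mul_le_mul_right _ hcb
    rw [show 29 * P * (2401 * p ^ 2) = 69629 * p ^ a by rw [hpP]; ring,
      show 29 * P * (14400 * (kc H * v)) = 14400 * (29 * P * (kc H * v)) by ring]
    omega

variable {G : Type*} [Group G] [Finite G]

/-- Classes inside and outside `N`. -/
theorem classes_add_le (N : Subgroup G) [N.Normal] :
    ∃ v, kc (G ⧸ N) + v ≤ kc G ∧
      Nat.card N ≤ 1 + v * (Subgroup.centralizer (N : Set G)).index := by
  classical
  haveI := Fintype.ofFinite G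
  let S : Finset G := Finset.univ.filter fun x => x ∈ N ∧ x ≠ 1
  let T : Finset (ConjClasses G) := S.image ConjClasses.mk
  refine ⟨T.card, ?_, ?_⟩
  · haveI := Fintype.ofFinite (ConjClasses G)
    haveI := Fintype.ofFinite (ConjClasses (G ⧸ N))
    have hsub : (Finset.univ : Finset (ConjClasses (G ⧸ N))) ⊆
        (Tᶜ).image (ConjClasses.map (QuotientGroup.mk' N)) := by
      intro C _
      obtain ⟨q, rfl⟩ := ConjClasses.mk_surjective C
      obtain ⟨g, rfl⟩ := QuotientGroup.mk'_surjective N q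
      by_cases hg : g ∈ N
      · refine Finset.mem_image.mpr ⟨ConjClasses.mk 1, Finset.mem_compl.mpr fun h => ?_,
          congrArg ConjClasses.mk ((map_one _).trans ((QuotientGroup.eq_one_iff g).mpr hg).symm)⟩
        obtain ⟨x, hx, e⟩ := Finset.mem_image.mp h
        exact (Finset.mem_filter.mp hx).2.2
          (isConj_one_left.mp (ConjClasses.mk_eq_mk_iff_isConj.mp e))
      · refine Finset.mem_image.mpr ⟨ConjClasses.mk g, Finset.mem_compl.mpr fun h => hg ?_, rfl⟩
        obtain ⟨x, hx, e⟩ := Finset.mem_image.mp h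
        obtain ⟨c, rfl⟩ := isConj_iff.mp (ConjClasses.mk_eq_mk_iff_isConj.mp e)
        exact Subgroup.Normal.conj_mem inferInstance x (Finset.mem_filter.mp hx).2.1 c
    have h := (Finset.card_le_card hsub).trans Finset.card_image_le
    rw [Finset.card_univ, ← Nat.card_eq_fintype_card, Finset.card_compl,
      ← Nat.card_eq_fintype_card] at h
    have hT : T.card ≤ kc G := by
      rw [kc, Nat.card_eq_fintype_card]; exact Finset.card_le_univ _
    change kc (G ⧸ N) ≤ kc G - T.card at h
    omega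
  · have hS : Nat.card N = S.card + 1 := by
      have e : (Finset.univ.filter fun x => x ∈ N) = insert 1 S := by
        ext x
        simp only [S, Finset.mem_filter, Finset.mem_univ, true_and, Finset.mem_insert]
        exact ⟨fun h => or_iff_not_imp_left.mpr fun hx => ⟨h, hx⟩,
          fun h => h.elim (fun hx => hx ▸ N.one_mem) And.left⟩
      rw [Nat.card_eq_fintype_card, Fintype.card_subtype, e,
        Finset.card_insert_of_notMem (by simp [S])]
    rw [hS, add_comm, add_le_add_iff_left, mul_comm]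
    refine Finset.card_le_mul_card_image S _ fun C hC => ?_
    obtain ⟨x, hx, rfl⟩ := Finset.mem_image.mp hC
    rw [Subgroup.index, ← Fintype.card_coe, ← Nat.card_eq_fintype_card]
    have hc : ∀ y : {y // y ∈ S.filter fun z => ConjClasses.mk z = ConjClasses.mk x},
        ∃ c : G, c * x * c⁻¹ = y := fun y =>
      isConj_iff.mp (ConjClasses.mk_eq_mk_iff_isConj.mp (Finset.mem_filter.mp y.2).2.symm)
    choose c hc using hc
    refine Nat.card_le_card_of_injective
      (fun y => (c y : G ⧸ Subgroup.centralizer (N : Set G))) fun y z h => Subtype.ext ?_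
    have h' := Subgroup.mem_centralizer_iff.mp (QuotientGroup.eq.mp h) x
      (Finset.mem_filter.mp hx).2.1
    rw [← hc y, ← hc z]
    calc c y * x * (c y)⁻¹ = c y * (x * ((c y)⁻¹ * c z)) * (c z)⁻¹ := by group
      _ = c y * ((c y)⁻¹ * c z * x) * (c z)⁻¹ := by rw [h']
      _ = _ := by group

/-- A minimal normal subgroup below a normal subgroup of a soluble group. -/
theorem exists_min_below (hsol : Group.IsSolvable G) (C : Subgroup G) [C.Normal] (hC : C ≠ ⊥) :
    ∃ (N : Subgroup G) (r a : ℕ), N.Normal ∧ N ≤ C ∧ r.Prime ∧ 1 ≤ a ∧ Nat.card N = r ^ a ∧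
      (∀ x ∈ N, ∀ y ∈ N, x * y = y * x) ∧ (∀ x ∈ N, x ^ r = 1) ∧
      ∀ M : Subgroup G, M.Normal → M ≤ N → M = ⊥ ∨ M = N := by
  classical
  obtain ⟨N, ⟨hN, hNC, hN0⟩, hmin⟩ :=
    (Set.toFinite {N : Subgroup G | N.Normal ∧ N ≤ C ∧ N ≠ ⊥}).exists_minimal
      ⟨C, inferInstance, le_rfl, hC⟩
  have hmin' : ∀ M : Subgroup G, M.Normal → M ≤ N → M = ⊥ ∨ M = N := by
    intro M hM hle
    by_cases h : M = ⊥
    · exact Or.inl h
    · exact Or.inr (le_antisymm hle (hmin ⟨hM, hle.trans hNC, h⟩ hle))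
  haveI := hN
  haveI := hsol
  have hab : ∀ x ∈ N, ∀ y ∈ N, x * y = y * x := by
    rcases hmin' ⁅N, N⁆ inferInstance (Subgroup.commutator_le_self N) with h | h
    · intro x hx y hy
      exact commutatorElement_eq_one_iff_mul_comm.mp
        (Subgroup.mem_bot.mp (h ▸ Subgroup.commutator_mem_commutator hx hy))
    · exfalso
      apply hN0
      obtain ⟨n, hn⟩ := (Group.isSolvable_def G).mp hsol
      have : N ≤ derivedSeries G n := by
        clear hn
        induction n with
        | zero => exact le_top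
        | succ n ih => rw [derivedSeries_succ, ← h]; exact Subgroup.commutator_mono ih ih
      exact le_bot_iff.mp (hn ▸ this)
  haveI : Nontrivial N := (Subgroup.nontrivial_iff_ne_bot N).mpr hN0
  obtain ⟨r, hr, hrd⟩ := Nat.exists_prime_and_dvd (Finite.one_lt_card (α := N)).ne'
  haveI := Fact.mk hr
  let M : Subgroup G :=
    { carrier := {x | x ∈ N ∧ x ^ r = 1}
      one_mem' := ⟨one_mem _, one_pow _⟩
      mul_mem' := fun {x y} hx hy => ⟨mul_mem hx.1 hy.1, by
        rw [Commute.mul_pow (hab x hx.1 y hy.1), hx.2, hy.2, one_mul]⟩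
      inv_mem' := fun {x} hx => ⟨inv_mem hx.1, by rw [inv_pow, hx.2, inv_one]⟩ }
  have hM : M.Normal := ⟨fun x hx g =>
    ⟨hN.conj_mem x hx.1 g, by rw [conj_pow, hx.2, mul_one, mul_inv_cancel]⟩⟩
  have hexp : ∀ x ∈ N, x ^ r = 1 := by
    rcases hmin' M hM (fun x hx => hx.1) with h | h
    · exfalso
      obtain ⟨x, hx⟩ := exists_prime_orderOf_dvd_card' r hrd
      have hxM : (x : G) ∈ M := ⟨x.2, by
        rw [← Subgroup.coe_pow, ← hx, pow_orderOf_eq_one, Subgroup.coe_one]⟩
      rw [h, Subgroup.mem_bot] at hxM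
      rw [show x = 1 from Subtype.ext hxM, orderOf_one] at hx
      exact hr.ne_one hx.symm
    · intro x hx
      rw [← h] at hx
      exact hx.2
  have hpg : IsPGroup r N := fun x => ⟨1, Subtype.ext (by
    rw [Subgroup.coe_pow, pow_one]; exact hexp x x.2)⟩
  obtain ⟨a, ha⟩ := IsPGroup.iff_card.mp hpg
  refine ⟨N, r, a, hN, hNC, hr, ?_, ha, hab, hexp, hmin'⟩
  rcases Nat.eq_zero_or_pos a with rfl | h
  · exact absurd (ha ▸ Finite.one_lt_card (α := N)) (by norm_num)
  · exact h

/-- The bound from an abelian normal subgroup of order `p ^ a`. -/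
theorem of_normal (hsol : Group.IsSolvable G) {p a : ℕ} (hp : p.Prime) (ha : 2 ≤ a)
    (N : Subgroup G) [N.Normal] (hab : ∀ x ∈ N, ∀ y ∈ N, x * y = y * x)
    (hN : Nat.card N = p ^ a)
    (hH : (∀ M : Subgroup G, M.Normal → M ≤ N → M = ⊥ ∨ M = N) ∨
      ∀ x y : (MulAut.conjNormal : G →* MulAut N).range, x * y = y * x) :
    49 * p ≤ 60 * kc G := by
  classical
  haveI := hsol
  letI : CommGroup N :=
    { (inferInstance : Group N) with mul_comm := fun x y => Subtype.ext (hab x x.2 y y.2) }
  let φ : G →* MulAut N := MulAut.conjNormal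
  have hker : φ.ker = Subgroup.centralizer (N : Set G) := by
    ext g
    rw [MonoidHom.mem_ker, Subgroup.mem_centralizer_iff]
    constructor
    · intro h x hx
      have := congrArg Subtype.val (DFunLike.congr_fun h ⟨x, hx⟩)
      rw [MulAut.conjNormal_apply, MulAut.one_apply] at this
      exact (mul_inv_eq_iff_eq_mul.mp this).symm
    · exact fun h => MulEquiv.ext fun x => Subtype.ext (by
        rw [MulAut.conjNormal_apply, MulAut.one_apply, ← h x x.2, mul_inv_cancel_right])
  have hGood : Good p a φ.range := by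
    rcases hH with hirr | hcomm
    · have hcrm : SolvBound.CRM φ.range := by
        intro M hM
        have hn : (M.map N.subtype).Normal := ⟨fun x hx g => by
          obtain ⟨m, hm, rfl⟩ := hx
          refine ⟨φ g m, hM _ ⟨g, rfl⟩ m hm, ?_⟩
          exact MulAut.conjNormal_apply g m⟩
        rcases hirr _ hn (Subgroup.map_subtype_le M) with h | h
        · refine ⟨⊤, fun _ _ _ _ => Subgroup.mem_top _, ?_, ?_⟩
          · rw [(Subgroup.map_eq_bot_iff_of_injective _ N.subtype_injective).mp h, bot_inf_eq]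
          · exact sup_top_eq M
        · refine ⟨⊥, fun h _ w hw => ?_, inf_bot_eq M, ?_⟩
          · rw [Subgroup.mem_bot] at hw ⊢
            rw [hw, map_one]
          · rw [sup_bot_eq, eq_top_iff]
            intro x _
            obtain ⟨m, hm, e⟩ : (x : G) ∈ M.map N.subtype := h.symm ▸ x.2
            exact Subtype.ext e ▸ hm
      obtain ⟨V, _, _, φ', H', e, -, -, hs, hcr⟩ := SolvBound.exists_transport φ.range
        (SolvBound.solvable_range inferInstance φ) hcrm
      have hV : Nat.card V = p ^ a := (Nat.card_congr φ').symm.trans hN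
      haveI : Nontrivial V := Finite.one_lt_card_iff_nontrivial.mp (by
        rw [hV]; exact Nat.one_lt_pow (by omega) hp.one_lt)
      obtain ⟨c, h0, h1, h2, h3⟩ := good_all p hp a V inferInstance hV H' hs hcr
      exact ⟨c, h0.congr e.symm, h1, fun h => (h2 h).imp_right fun h' =>
        ⟨h'.1, (Nat.card_congr e.toEquiv).symm ▸ h'.2⟩, h3⟩
    · refine ⟨1, Dn.of_comm hcomm, fun _ => le_rfl, fun _ => Or.inl (by norm_num), fun _ _ => ?_⟩
      have := Nat.one_le_pow (a - 2) p hp.pos
      omega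
  obtain ⟨v, hv1, hv2⟩ := classes_add_le N
  rw [← hker, Subgroup.index_ker, hN] at hv2
  have hk : kc φ.range ≤ kc (G ⧸ N) := by
    refine SolvBound.kc_le_of_surjective (QuotientGroup.lift N φ.rangeRestrict fun x hx => ?_) ?_
    · refine Subtype.ext ?_
      show φ x = 1
      rw [← MonoidHom.mem_ker, hker, Subgroup.mem_centralizer_iff]
      exact fun y hy => hab y hy x hx
    · exact QuotientGroup.lift_surjective_of_surjective _ _ φ.rangeRestrict_surjective _
  calc 49 * p ≤ 60 * (kc φ.range + v) := final_ineq hp ha hGood hv2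
    _ ≤ _ := Nat.mul_le_mul_left _ ((Nat.add_le_add_right hk v).trans hv1)

/-- A coprime group stabilising a subgroup of order `p` of a group of order `p²` is commutative. -/
theorem range_comm {p : ℕ} (hp : p.Prime) (L M : Subgroup G) [L.Normal] [hM : M.Normal]
    (hML : M ≤ L) (hab : ∀ x ∈ L, ∀ y ∈ L, x * y = y * x) (hL : Nat.card L = p ^ 2)
    (hMc : Nat.card M = p)
    (hcop : ¬ p ∣ Nat.card (MulAut.conjNormal : G →* MulAut L).range) :
    ∀ x y : (MulAut.conjNormal : G →* MulAut L).range, x * y = y * x := by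
  classical
  haveI := Fact.mk hp
  haveI : IsCyclic M := isCyclic_of_prime_card hMc
  obtain ⟨m₀, hm₀⟩ := IsCyclic.exists_generator (α := M)
  let Mq : Subgroup L := M.subgroupOf L
  haveI : Mq.Normal := hM.subgroupOf L
  haveI : IsCyclic (L ⧸ Mq) := by
    refine isCyclic_of_prime_card (p := p) ?_
    refine Nat.eq_of_mul_eq_mul_right hp.pos ?_
    rw [← sq, ← hL]
    conv_lhs => rw [← hMc, ← Nat.card_congr (Subgroup.subgroupOfEquivOfLe hML).toEquiv]
    exact (Subgroup.card_eq_card_quotient_mul_card_subgroup Mq).symm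
  let act : (MulAut.conjNormal : G →* MulAut L).range → MulAut L := Subtype.val
  have hinv : ∀ (σ : (MulAut.conjNormal : G →* MulAut L).range) (m : L), (m : G) ∈ M →
      (act σ m : G) ∈ M := by
    rintro ⟨_, g, rfl⟩ m hm
    show ((MulAut.conjNormal g m : L) : G) ∈ M
    rw [MulAut.conjNormal_apply]
    exact hM.conj_mem _ hm g
  -- commutators act trivially on `M` and on `L ⧸ M`
  intro x y
  let z : (MulAut.conjNormal : G →* MulAut L).range := (y * x)⁻¹ * (x * y)
  suffices hz : z = 1 by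
    exact (inv_mul_eq_one.mp hz).symm
  let mL : L := ⟨(m₀ : G), hML m₀.2⟩
  have hgenM : ∀ m : L, (m : G) ∈ M → ∃ i : ℤ, m = mL ^ i := by
    intro m hm
    obtain ⟨i, hi⟩ := Subgroup.mem_zpowers_iff.mp (hm₀ ⟨m, hm⟩)
    have h' := congrArg Subtype.val hi
    rw [Subgroup.coe_zpow] at h'
    refine ⟨i, Subtype.ext ?_⟩
    rw [Subgroup.coe_zpow]
    exact h'.symm
  have hz1 : ∀ m : L, (m : G) ∈ M → act z m = m := by
    obtain ⟨i, hi⟩ := hgenM _ (hinv x mL m₀.2)
    obtain ⟨j, hj⟩ := hgenM _ (hinv y mL m₀.2)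
    have h0 : act (x * y) mL = act (y * x) mL := by
      show act x (act y mL) = act y (act x mL)
      rw [hj, hi, map_zpow, map_zpow, hi, hj, ← zpow_mul, ← zpow_mul, mul_comm i j]
    intro m hm
    obtain ⟨l, rfl⟩ := hgenM m hm
    rw [map_zpow]
    congr 1
    show (act (y * x))⁻¹ (act (x * y) mL) = mL
    rw [h0]
    exact MulAut.inv_apply_self L (act (y * x)) mL
  obtain ⟨q₀, hq₀⟩ := IsCyclic.exists_generator (α := L ⧸ Mq)
  obtain ⟨l₀, rfl⟩ := QuotientGroup.mk_surjective q₀
  have hmod : ∀ l : L, ∃ (i : ℤ) (m : L), (m : G) ∈ M ∧ l = l₀ ^ i * m := by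
    intro l
    obtain ⟨i, hi⟩ := Subgroup.mem_zpowers_iff.mp (hq₀ (l : L ⧸ Mq))
    rw [← QuotientGroup.mk_zpow, QuotientGroup.eq] at hi
    exact ⟨i, (l₀ ^ i)⁻¹ * l, Subgroup.mem_subgroupOf.mp hi, (mul_inv_cancel_left _ _).symm⟩
  obtain ⟨m₁, hm₁, hz2⟩ : ∃ m : L, (m : G) ∈ M ∧ act z l₀ = l₀ * m := by
    obtain ⟨i, a, ha, hi⟩ := hmod (act x l₀)
    obtain ⟨j, b, hb, hj⟩ := hmod (act y l₀)
    have hc : ∀ u v : L, u * v = v * u := fun u v => Subtype.ext (hab u u.2 v v.2)
    have e1 : act (x * y) l₀ = l₀ ^ (i * j) * (a ^ j * act x b) := by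
      show act x (act y l₀) = _
      rw [hj, map_mul, map_zpow, hi, (show Commute (l₀ ^ i) a from hc _ _).mul_zpow, ← zpow_mul,
        mul_assoc]
    have e2 : act (y * x) l₀ = l₀ ^ (i * j) * (b ^ i * act y a) := by
      show act y (act x l₀) = _
      rw [hi, map_mul, map_zpow, hj, (show Commute (l₀ ^ j) b from hc _ _).mul_zpow, ← zpow_mul,
        mul_assoc, mul_comm j i]
    let u : L := (b ^ i * act y a)⁻¹ * (a ^ j * act x b)
    have hu : (u : G) ∈ M := by
      show ((_ : L) : G) ∈ M
      simp only [u, Subgroup.coe_mul, Subgroup.coe_inv, Subgroup.coe_zpow]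
      exact mul_mem (inv_mem (mul_mem (zpow_mem hb _) (hinv y a ha)))
        (mul_mem (zpow_mem ha _) (hinv x b hb))
    refine ⟨(act (y * x))⁻¹ u, hinv (y * x)⁻¹ u hu, ?_⟩
    show (act (y * x))⁻¹ (act (x * y) l₀) = _
    have e3 : act (x * y) l₀ = act (y * x) l₀ * u := by
      rw [e1, e2, mul_assoc, mul_inv_cancel_left]
    rw [e3, map_mul]
    congr 1
    exact MulAut.inv_apply_self L (act (y * x)) l₀
  have hpow : ∀ n : ℕ, act (z ^ n) l₀ = l₀ * m₁ ^ n := by
    intro n
    induction n with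
    | zero =>
      rw [pow_zero, pow_zero, mul_one]
      rfl
    | succ n ih =>
      rw [pow_succ']
      show act z (act (z ^ n) l₀) = _
      rw [ih, map_mul, map_pow, hz1 m₁ hm₁, hz2, mul_assoc, ← pow_succ']
  have hm1p : m₁ ^ p = 1 := by
    refine Subtype.ext ?_
    have := congrArg Subtype.val (pow_card_eq_one' (x := (⟨m₁, hm₁⟩ : M)))
    rwa [hMc, Subgroup.coe_pow, Subgroup.coe_one] at this
  have hzp : z ^ p = 1 := by
    refine Subtype.ext (MulEquiv.ext fun l => ?_)
    show act (z ^ p) l = l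
    obtain ⟨i, m, hm, rfl⟩ := hmod l
    have hfix : ∀ n : ℕ, act (z ^ n) m = m := by
      intro n
      induction n with
      | zero => rw [pow_zero]; rfl
      | succ n ih =>
        rw [pow_succ']
        show act z (act (z ^ n) m) = m
        rw [ih, hz1 m hm]
    rw [map_mul, map_zpow, hpow, hm1p, mul_one, hfix]
  rcases (Nat.dvd_prime hp).mp (orderOf_dvd_of_pow_eq_one hzp) with h | h
  · exact orderOf_eq_one_iff.mp h
  · exact absurd (h ▸ orderOf_dvd_natCard z) hcop

universe u

/-- **The theorem.** -/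
theorem main {p : ℕ} (hp : p.Prime) : ∀ n, ∀ (G : Type u) [Group G] [Finite G],
    Nat.card G = n → Group.IsSolvable G → p ^ 2 ∣ n → 49 * p ≤ 60 * kc G := by
  intro n
  induction n using Nat.strong_induction_on with
  | _ n ih =>
  intro G _ _ hn hsol hdvd
  classical
  haveI := hsol
  haveI := Fact.mk hp
  have hp2 : 1 < p ^ 2 := Nat.one_lt_pow two_ne_zero hp.one_lt
  haveI : Nontrivial G := Finite.one_lt_card_iff_nontrivial.mp (by
    rw [hn]
    refine hp2.trans_le (Nat.le_of_dvd ?_ hdvd)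
    rw [← hn]; exact Nat.card_pos)
  by_cases hq : ∃ N : Subgroup G, ∃ _ : N.Normal, N ≠ ⊥ ∧ p ^ 2 ∣ Nat.card (G ⧸ N)
  · obtain ⟨N, _, hN0, hd⟩ := hq
    refine (ih _ ?_ (G ⧸ N) rfl inferInstance hd).trans (Nat.mul_le_mul_left _
      (SolvBound.kc_le_of_surjective _ (QuotientGroup.mk'_surjective N)))
    rw [← hn, Subgroup.card_eq_card_quotient_mul_card_subgroup N]
    haveI := (Subgroup.nontrivial_iff_ne_bot N).mpr hN0
    exact lt_mul_of_one_lt_right Nat.card_pos Finite.one_lt_card
  push Not at hq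
  have hshape : ∀ (N : Subgroup G) (r a : ℕ), N.Normal → r.Prime → 1 ≤ a →
      Nat.card N = r ^ a → r = p := by
    intro N r a hN hr ha hc
    by_contra hne
    haveI := hN
    refine hq N inferInstance (fun h => ?_) (((Nat.coprime_primes hp hr).mpr
      (Ne.symm hne)).pow 2 a |>.dvd_of_dvd_mul_right ?_)
    · rw [h, Subgroup.card_bot] at hc
      exact absurd hc.symm (Nat.one_lt_pow (by omega) hr.one_lt).ne'
    · rw [← hc, ← Subgroup.card_eq_card_quotient_mul_card_subgroup, hn]
      exact hdvd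
  obtain ⟨N, r, a, hN, -, hr, ha, hNc, hNab, -, hNmin⟩ :=
    exists_min_below hsol (⊤ : Subgroup G) top_ne_bot
  obtain rfl := hshape N r a hN hr ha hNc
  haveI := hN
  rcases Nat.lt_or_ge a 2 with ha2 | ha2
  swap
  · exact of_normal hsol hp ha2 N hNab hNc (Or.inl hNmin)
  obtain rfl : a = 1 := by omega
  rw [pow_one] at hNc
  have hN0 : N ≠ ⊥ := fun h => by rw [h, Subgroup.card_bot] at hNc; exact hp.ne_one hNc.symm
  have hGN := Subgroup.card_eq_card_quotient_mul_card_subgroup N
  rw [hNc, hn] at hGN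
  have hpQ : r ∣ Nat.card (G ⧸ N) := by
    refine Nat.dvd_of_mul_dvd_mul_right hp.pos ?_
    rw [← sq, ← hGN]
    exact hdvd
  let C := Subgroup.centralizer (N : Set G)
  haveI : C.Normal := Subgroup.normal_centralizer
  have hNC : N ≤ C := fun x hx => Subgroup.mem_centralizer_iff.mpr fun y hy => hNab y hy x hx
  let π := QuotientGroup.mk' N
  haveI : (C.map π).Normal :=
    Subgroup.Normal.map inferInstance π (QuotientGroup.mk'_surjective N)
  have hCq : C.map π ≠ ⊥ := by
    intro h
    rw [Subgroup.map_eq_bot_iff, QuotientGroup.ker_mk'] at h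
    have hNC' : N = C := le_antisymm hNC h
    -- then `G ⧸ N` embeds in `Aut N`
    let φ : G →* MulAut N := MulAut.conjNormal
    have hker : φ.ker = N := by
      refine le_antisymm (fun g hg => ?_) (fun g hg => ?_)
      · rw [hNC']
        refine Subgroup.mem_centralizer_iff.mpr fun x hx => ?_
        have := congrArg Subtype.val (DFunLike.congr_fun (MonoidHom.mem_ker.mp hg) ⟨x, hx⟩)
        rw [MulAut.conjNormal_apply, MulAut.one_apply] at this
        exact (mul_inv_eq_iff_eq_mul.mp this).symm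
      · exact MonoidHom.mem_ker.mpr (MulEquiv.ext fun x => Subtype.ext (by
          rw [MulAut.conjNormal_apply, MulAut.one_apply, hNab g hg x x.2, mul_inv_cancel_right]))
    have h1 : Nat.card (G ⧸ N) ∣ Nat.card (MulAut N) := by
      rw [show Nat.card (G ⧸ N) = N.index from rfl]
      calc N.index = φ.ker.index := by rw [hker]
        _ = Nat.card φ.range := Subgroup.index_ker φ
        _ ∣ _ := Subgroup.card_subgroup_dvd_card φ.range
    haveI : IsCyclic N := isCyclic_of_prime_card hNc
    rw [IsCyclic.card_mulAut, hNc, Nat.totient_prime hp] at h1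
    have := Nat.le_of_dvd (by have := hp.two_le; omega) (hpQ.trans h1)
    have := hp.two_le
    omega
  obtain ⟨M, s, j, hM, hMC, hs, hj, hMc, hMab, hMexp, -⟩ :=
    exists_min_below (G := G ⧸ N) inferInstance _ hCq
  haveI := hM
  let L : Subgroup G := M.comap π
  haveI hLn : L.Normal := hM.comap π
  have hNL : N ≤ L := fun x hx => by
    show π x ∈ M
    rw [show π x = 1 from (QuotientGroup.eq_one_iff x).mpr hx]
    exact one_mem M
  have hLC : L ≤ C := fun x hx => by
    have h := hMC hx
    rw [← Subgroup.mem_comap, Subgroup.comap_map_eq, QuotientGroup.ker_mk',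
      sup_eq_left.mpr hNC] at h
    exact h
  have hLc : Nat.card L = r * s ^ j := by
    have h1 := Subgroup.card_eq_card_quotient_mul_card_subgroup (N.subgroupOf L)
    let f : L →* M := (π.comp L.subtype).codRestrict M fun x => x.2
    have hf : Function.Surjective f := fun m => by
      obtain ⟨g, hg⟩ := QuotientGroup.mk'_surjective N (m : G ⧸ N)
      exact ⟨⟨g, show π g ∈ M from hg ▸ m.2⟩, Subtype.ext hg⟩
    have h2 := SolvBound.card_eq_ker_mul_range f
    rw [MonoidHom.range_eq_top.mpr hf, Subgroup.card_top, hMc] at h2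
    have hk : f.ker = N.subgroupOf L := by
      ext x
      simp only [f, MonoidHom.mem_ker, Subgroup.mem_subgroupOf, Subtype.ext_iff,
        MonoidHom.codRestrict_apply, MonoidHom.comp_apply, Subgroup.coe_subtype, Subgroup.coe_one]
      exact (QuotientGroup.eq_one_iff _)
    rw [h2, hk, Nat.card_congr (Subgroup.subgroupOfEquivOfLe hNL).toEquiv, hNc]
  have hcent : ∀ x ∈ L, ∀ y ∈ N, x * y = y * x := fun x hx y hy =>
    (Subgroup.mem_centralizer_iff.mp (hLC hx) y hy).symm
  have hsp : ∀ x ∈ L, x ^ s ∈ N := fun x hx => by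
    rw [← QuotientGroup.eq_one_iff, QuotientGroup.mk_pow]
    exact hMexp _ hx
  by_cases hsr : s = r
  swap
  · -- the `s`-part of `L` would be normal
    exfalso
    have hcomm : ∀ x ∈ L, ∀ y ∈ L, x * y = y * x := by
      intro x hx y hy
      have hN' : ⁅x, y⁆ ∈ N := by
        rw [← QuotientGroup.eq_one_iff]
        show π ⁅x, y⁆ = 1
        rw [map_commutatorElement]
        exact commutatorElement_eq_one_iff_mul_comm.mpr (hMab _ hx _ hy)
      have hpw : ∀ i : ℕ, x ^ i * y * (x ^ i)⁻¹ = ⁅x, y⁆ ^ i * y := by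
        intro i
        induction i with
        | zero => simp
        | succ i ihi =>
          rw [pow_succ' x]
          calc x * x ^ i * y * (x * x ^ i)⁻¹ = x * (x ^ i * y * (x ^ i)⁻¹) * x⁻¹ := by group
            _ = x * ⁅x, y⁆ ^ i * y * x⁻¹ := by rw [ihi]; group
            _ = ⁅x, y⁆ ^ i * x * y * x⁻¹ := by
              rw [hcent x hx _ (N.pow_mem hN' i)]
            _ = ⁅x, y⁆ ^ i * (⁅x, y⁆ * y) := by rw [commutatorElement_def]; group
            _ = _ := by rw [← mul_assoc, ← pow_succ]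
      have h1 : ⁅x, y⁆ ^ s = 1 := by
        have := hpw s
        rw [← hcent y hy _ (hsp x hx), mul_inv_cancel_right] at this
        exact mul_eq_right.mp this.symm
      have h2 : ⁅x, y⁆ ^ r = 1 := by
        have := pow_card_eq_one' (x := (⟨_, hN'⟩ : N))
        rw [hNc] at this
        exact congrArg Subtype.val this
      have h3 := pow_gcd_eq_one.mpr ⟨h1, h2⟩
      rw [(Nat.coprime_primes hs hp).mpr hsr, pow_one] at h3
      exact commutatorElement_eq_one_iff_mul_comm.mp h3
    let R : Subgroup G :=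
      { carrier := {x | x ∈ L ∧ x ^ s = 1}
        one_mem' := ⟨one_mem _, one_pow _⟩
        mul_mem' := fun {x y} hx hy => ⟨mul_mem hx.1 hy.1, by
          rw [Commute.mul_pow (hcomm x hx.1 y hy.1), hx.2, hy.2, one_mul]⟩
        inv_mem' := fun {x} hx => ⟨inv_mem hx.1, by rw [inv_pow, hx.2, inv_one]⟩ }
    haveI : R.Normal := ⟨fun x hx g =>
      ⟨hLn.conj_mem x hx.1 g, by rw [conj_pow, hx.2, mul_one, mul_inv_cancel]⟩⟩
    haveI := Fact.mk hs
    obtain ⟨x, hx⟩ := exists_prime_orderOf_dvd_card' (G := L) s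
      (by rw [hLc]; exact Dvd.dvd.mul_left (dvd_pow_self _ (by omega)) _)
    have hR0 : R ≠ ⊥ := fun h => by
      have hxR : (x : G) ∈ R := ⟨x.2, by
        rw [← Subgroup.coe_pow, ← hx, pow_orderOf_eq_one, Subgroup.coe_one]⟩
      rw [h, Subgroup.mem_bot] at hxR
      rw [show x = 1 from Subtype.ext hxR, orderOf_one] at hx
      exact hs.ne_one hx.symm
    obtain ⟨N', r', a', hN', hle, hr', ha', hN'c, -, hexp', -⟩ := exists_min_below hsol R hR0
    haveI := hN'
    have he := hshape N' r' a' hN' hr' ha' hN'c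
    obtain ⟨w, hw⟩ := exists_prime_orderOf_dvd_card' (G := N') r
      (by rw [hN'c, he]; exact dvd_pow_self _ (by omega))
    have h1 : orderOf (w : G) ∣ s := orderOf_dvd_of_pow_eq_one (hle w.2).2
    rw [Subgroup.orderOf_coe, hw] at h1
    exact hsr ((Nat.prime_dvd_prime_iff_eq hp hs).mp h1).symm
  subst hsr
  have hj1 : j = 1 := by
    by_contra hne
    refine hq N inferInstance hN0 ?_
    refine (pow_dvd_pow s (show 2 ≤ j by omega)).trans ?_
    rw [← hMc]
    exact Subgroup.card_subgroup_dvd_card M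
  subst hj1
  rw [pow_one, ← sq] at hLc
  have hLab : ∀ x ∈ L, ∀ y ∈ L, x * y = y * x := by
    letI := IsPGroup.commGroupOfCardEqPrimeSq hLc
    intro x hx y hy
    exact congrArg Subtype.val (mul_comm (⟨x, hx⟩ : L) ⟨y, hy⟩)
  by_cases hirr : ∀ K : Subgroup G, K.Normal → K ≤ L → K = ⊥ ∨ K = L
  · exact of_normal hsol hp le_rfl L hLab hLc (Or.inl hirr)
  push Not at hirr
  obtain ⟨K, hK, hKL, hK0, hK1⟩ := hirr
  haveI := hK
  have hKc : Nat.card K = s := by
    obtain ⟨i, hi, hi'⟩ := (Nat.dvd_prime_pow hp).mp (hLc ▸ Subgroup.card_dvd_of_le hKL)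
    interval_cases i
    · exact absurd (Subgroup.card_eq_one.mp (by simpa using hi')) hK0
    · simpa using hi'
    · exact absurd (Subgroup.eq_of_le_of_card_ge hKL (by rw [hLc, hi'])) hK1
  refine of_normal hsol hp le_rfl L hLab hLc (Or.inr (range_comm hp L K hKL hLab hLc hKc ?_))
  intro hd
  rw [← Subgroup.index_ker] at hd
  have hLk : L ≤ (MulAut.conjNormal : G →* MulAut L).ker := fun g hg =>
    MonoidHom.mem_ker.mpr (MulEquiv.ext fun x => Subtype.ext (by
      rw [MulAut.conjNormal_apply, MulAut.one_apply, hLab g hg x x.2, mul_inv_cancel_right]))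
  have h3 : s ∣ Nat.card (G ⧸ L) := hd.trans (Subgroup.index_dvd_of_le hLk)
  obtain ⟨w, hw⟩ := h3
  refine hq N inferInstance hN0 ⟨w, ?_⟩
  refine Nat.eq_of_mul_eq_mul_right hp.pos ?_
  rw [← hGN, ← hn, Subgroup.card_eq_card_quotient_mul_card_subgroup L, hw, hLc]
  ring

end Cfsg.Agent.SolvDense
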