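import Cfsg.Agent.SolvDense.Centre
import Cfsg.Agent.SolvDense.Final
import Cfsg.Agent.Cores.Fitting

/-!
`p ≤ 3 log p · k(G)` for a prime `p` dividing the index of the Fitting subgroup of a soluble group.
-/

set_option autoImplicit false
set_option linter.style.haveILetI false
set_option linter.unusedSectionVars false

namespace Cfsg.Agent.SolvDense

open BaseSize SolvBound Polynomial

universe u

/-- A polynomial of degree below the number of roots with regular differences is zero. -/
theorem eq_zero_of_roots {R : Type*} [CommRing R] (S : Finset R)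
    (hreg : ∀ a ∈ S, ∀ b ∈ S, a ≠ b → ∀ x : R, (b - a) * x = 0 → x = 0) :
    ∀ D : R[X], D.natDegree < S.card → (∀ a ∈ S, D.eval a = 0) → D = 0 := by
  classical
  induction S using Finset.induction_on with
  | empty => intro D h; simp at h
  | @insert a S ha ih =>
    intro D hdeg hroot
    rw [Finset.card_insert_of_notMem ha] at hdeg
    obtain ⟨Q, rfl⟩ := Polynomial.dvd_iff_isRoot.mpr (hroot a (Finset.mem_insert_self a S))
    by_cases hQ : Q = 0
    · rw [hQ, mul_zero]
    haveI : Nontrivial R := nontrivial_of_ne _ _ fun h : (1 : R) = 0 => hQ (by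
      ext i; rw [← mul_one (Q.coeff i), h, mul_zero, Polynomial.coeff_zero])
    rw [(Polynomial.monic_X_sub_C a).natDegree_mul' hQ, Polynomial.natDegree_X_sub_C] at hdeg
    refine absurd (ih (fun b hb c hc => hreg b (Finset.mem_insert_of_mem hb) c
      (Finset.mem_insert_of_mem hc)) Q (by omega) fun b hb => ?_) hQ
    refine hreg a (Finset.mem_insert_self a S) b (Finset.mem_insert_of_mem hb)
      (fun h => ha (h ▸ hb)) _ ?_
    have := hroot b (Finset.mem_insert_of_mem hb)
    rwa [Polynomial.eval_mul, Polynomial.eval_sub, Polynomial.eval_X, Polynomial.eval_C] at this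

variable {V : Type} [AddCommGroup V] [Finite V]

/-- Powers of a fixed-point-free element of prime order are fixed-point-free. -/
theorem fix_pow {p : ℕ} (hp : p.Prime) {z : (AddMonoid.End V)ˣ} (hzp : z ^ p = 1)
    (hfpf : ∀ v : V, z • v = v → v = 0) {w : (AddMonoid.End V)ˣ} (hw : w ∈ Subgroup.zpowers z)
    (hw1 : w ≠ 1) {v : V} (hv : w • v = v) : v = 0 := by
  haveI := finite_End V
  obtain ⟨k, rfl⟩ := mem_powers_iff_mem_zpowers.mpr hw
  have hco : k.Coprime (orderOf z) := by
    refine Nat.Coprime.coprime_dvd_right (orderOf_dvd_of_pow_eq_one hzp) ?_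
    refine (hp.coprime_iff_not_dvd.mpr fun ⟨m, hm⟩ => hw1 ?_).symm
    show z ^ k = 1
    rw [hm, pow_mul, hzp, one_pow]
  obtain ⟨m, hm⟩ := exists_pow_eq_self_of_coprime hco
  have : z ∈ MulAction.stabilizer (AddMonoid.End V)ˣ v :=
    hm ▸ pow_mem (show z ^ k ∈ MulAction.stabilizer (AddMonoid.End V)ˣ v from hv) m
  exact hfpf v this

/-- The values at `z` of polynomials with coefficients `0`, `1`. -/
theorem two_pow_le_val [Nontrivial V] {H : Subgroup (AddMonoid.End V)ˣ} {p : ℕ} (hp : p.Prime)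
    {z : (AddMonoid.End V)ˣ} (hzp : z ^ p = 1) (hfpf : ∀ v : V, z • v = v → v = 0)
    (hnorm : ∀ h ∈ H, h * z * h⁻¹ ∈ Subgroup.zpowers z) {Cz : Subgroup H}
    (hCz : ∀ h : H, (h : (AddMonoid.End V)ˣ) * z = z * h → h ∈ Cz) :
    2 ^ Cz.index ≤ Nat.card (Val (z : AddMonoid.End V)) := by
  classical
  haveI := finite_End V
  set e := Cz.index with he
  let A : Subalgebra ℤ (AddMonoid.End V) := (aeval (z : AddMonoid.End V)).range
  letI : CommRing A :=
    { (inferInstance : Ring A) with
      mul_comm := by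
        rintro ⟨_, P, rfl⟩ ⟨_, Q, rfl⟩
        refine Subtype.ext ?_
        show aeval (z : AddMonoid.End V) P * aeval (z : AddMonoid.End V) Q =
          aeval (z : AddMonoid.End V) Q * aeval (z : AddMonoid.End V) P
        rw [← map_mul, ← map_mul, mul_comm] }
  let conj : H → (AddMonoid.End V)ˣ := fun h => (h : (AddMonoid.End V)ˣ) * z * (h : (AddMonoid.End V)ˣ)⁻¹
  have hpow : ∀ q : H ⧸ Cz, ∃ k : ℕ, z ^ k = conj q.out := fun q =>
    mem_powers_iff_mem_zpowers.mpr (hnorm _ q.out.2)
  choose k hk using hpow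
  let r : H ⧸ Cz → A := fun q => ⟨(conj q.out : AddMonoid.End V), X ^ k q, by
    show aeval (z : AddMonoid.End V) (X ^ k q) = _
    rw [map_pow, aeval_X, ← Units.val_pow_eq_pow_val, hk]⟩
  have hr : Function.Injective r := by
    intro a b h
    have h' : conj a.out = conj b.out := Units.ext (congrArg Subtype.val h)
    rw [← QuotientGroup.out_eq' a, ← QuotientGroup.out_eq' b, QuotientGroup.eq]
    refine hCz _ ?_
    show ((a.out : (AddMonoid.End V)ˣ))⁻¹ * b.out * z = z * (((a.out : (AddMonoid.End V)ˣ))⁻¹ * b.out)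
    calc ((a.out : (AddMonoid.End V)ˣ))⁻¹ * b.out * z
        = (a.out : (AddMonoid.End V)ˣ)⁻¹ * conj b.out * b.out := by simp [conj, mul_assoc]
      _ = (a.out : (AddMonoid.End V)ˣ)⁻¹ * conj a.out * b.out := by rw [h']
      _ = _ := by simp [conj, mul_assoc]
  haveI : Fintype (H ⧸ Cz) := Fintype.ofFinite _
  let S : Finset A := Finset.univ.image r
  have hS : S.card = e := by
    rw [Finset.card_image_of_injective _ hr, Finset.card_univ, ← Nat.card_eq_fintype_card]
    rfl
  have hreg : ∀ a ∈ S, ∀ b ∈ S, a ≠ b → ∀ x : A, (b - a) * x = 0 → x = 0 := by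
    intro a ha b hb hab x hx
    obtain ⟨i, -, rfl⟩ := Finset.mem_image.mp ha
    obtain ⟨j, -, rfl⟩ := Finset.mem_image.mp hb
    refine Subtype.ext (DFunLike.ext _ _ fun v => ?_)
    have h0 : ((conj j.out : AddMonoid.End V) - (conj i.out : AddMonoid.End V)) *
        (x : AddMonoid.End V) = 0 := congrArg Subtype.val hx
    rw [sub_mul, sub_eq_zero] at h0
    have h1 : conj j.out • (x : AddMonoid.End V) v = conj i.out • (x : AddMonoid.End V) v :=
      DFunLike.congr_fun h0 v
    show (x : AddMonoid.End V) v = 0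
    refine fix_pow hp hzp hfpf (w := (conj i.out)⁻¹ * conj j.out)
      (mul_mem (inv_mem (hnorm _ i.out.2)) (hnorm _ j.out.2)) ?_ ?_
    · rw [Ne, inv_mul_eq_one]
      exact fun h => hab (congrArg r (hr (Subtype.ext (congrArg Units.val h))))
    · rw [mul_smul, h1, inv_smul_smul]
  let B : Finset ℕ → ℤ[X] := fun T => ∑ j ∈ T, X ^ j
  have hinj : Function.Injective fun T : (Finset.range e).powerset =>
      (⟨aeval (z : AddMonoid.End V) (B T), B T, rfl⟩ : Val (z : AddMonoid.End V)) := by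
    rintro ⟨T₁, hT₁⟩ ⟨T₂, hT₂⟩ h
    have h' : aeval (z : AddMonoid.End V) (B T₁) = aeval (z : AddMonoid.End V) (B T₂) :=
      congrArg Subtype.val h
    rw [Finset.mem_powerset] at hT₁ hT₂
    set D := B T₁ - B T₂ with hD
    have hz0 : aeval (z : AddMonoid.End V) D = 0 := by rw [hD, map_sub, h', sub_self]
    have hdeg : ∀ T ⊆ Finset.range e, (B T).natDegree ≤ e - 1 := fun T hT =>
      Polynomial.natDegree_sum_le_of_forall_le _ _ fun j hj => (natDegree_X_pow_le j).trans
        (by have := Finset.mem_range.mp (hT hj); omega)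
    have he0 : 0 < e := Nat.pos_of_ne_zero Subgroup.index_ne_zero_of_finite
    have hD0 : D.map (algebraMap ℤ A) = 0 := by
      refine eq_zero_of_roots S hreg _ ?_ fun a ha => ?_
      · rw [hS]
        refine (Polynomial.natDegree_map_le.trans ((Polynomial.natDegree_sub_le _ _).trans
          (max_le (hdeg _ hT₁) (hdeg _ hT₂)))).trans_lt ?_
        omega
      · obtain ⟨q, -, rfl⟩ := Finset.mem_image.mp ha
        rw [Polynomial.eval_map, ← Polynomial.aeval_def]
        refine Subtype.ext ?_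
        refine (Polynomial.aeval_subalgebra_coe D A (r q)).trans ?_
        refine DFunLike.ext _ _ fun v => ?_
        let g : (AddMonoid.End V)ˣ := (q.out : (AddMonoid.End V)ˣ)
        have := eval_intertwine ((g : AddMonoid.End V) : V →+ V) (z' := (z : AddMonoid.End V))
          (z := (conj q.out : AddMonoid.End V)) (fun u => by
            show g • z • u = (g * z * g⁻¹) • g • u
            rw [mul_smul, inv_smul_smul, mul_smul]) D (g⁻¹ • v)
        rw [hz0] at this
        show (aeval (conj q.out : AddMonoid.End V) D : AddMonoid.End V) v = 0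
        rw [show v = g • g⁻¹ • v from (smul_inv_smul g v).symm]
        exact this.symm.trans (map_zero (g : AddMonoid.End V))
    haveI : Nontrivial A := by
      refine ⟨⟨1, 0, fun h => ?_⟩⟩
      obtain ⟨v, hv⟩ := exists_ne (0 : V)
      exact hv (DFunLike.congr_fun (congrArg Subtype.val h) v)
    refine Subtype.ext (Finset.ext fun j => ?_)
    have hc := congrArg (fun P : A[X] => P.coeff j) hD0
    simp only [hD, B, Polynomial.coeff_map, Polynomial.coeff_sub, Polynomial.finset_sum_coeff,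
      Polynomial.coeff_X_pow, Finset.sum_ite_eq, Polynomial.coeff_zero] at hc
    show j ∈ T₁ ↔ j ∈ T₂
    by_cases h1 : j ∈ T₁ <;> by_cases h2 : j ∈ T₂ <;> simp [h1, h2] at hc ⊢
  refine le_trans ?_ (Nat.card_le_card_of_injective _ hinj)
  rw [Nat.card_eq_finsetCard, Finset.card_powerset, Finset.card_range]

theorem six_le_pow : ∀ e, 19 ≤ e → e ^ 6 ≤ 2000 * 2 ^ e := by
  intro e he
  induction e, he using Nat.le_induction with
  | base => norm_num
  | succ e he ih =>
    have h1 : (e + 1) ^ 6 * 19 ^ 6 ≤ e ^ 6 * 20 ^ 6 := by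
      rw [← mul_pow, ← mul_pow]
      exact Nat.pow_le_pow_left (by omega) 6
    rw [pow_succ 2]
    norm_num at h1 ⊢
    omega

theorem numeric {p e s q : ℕ} (he : 19 ≤ e) (hs : 18 * s < p) (hq : 4 * q ≤ s ^ 2)
    (hpe : p ^ 3 ≤ 4 * 2 ^ e) (h : 2 ^ e ≤ 2 * (q * e ^ 2)) : False := by
  have hlt : (18 * s) ^ 2 * e ^ 2 < p ^ 2 * e ^ 2 :=
    Nat.mul_lt_mul_of_pos_right (Nat.pow_lt_pow_left hs two_ne_zero) (pow_pos (by omega) 2)
  have hb : 648 * 2 ^ e < p ^ 2 * e ^ 2 := by
    calc 648 * 2 ^ e ≤ 648 * (2 * (q * e ^ 2)) := Nat.mul_le_mul_left _ h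
      _ = 324 * (4 * q) * e ^ 2 := by ring
      _ ≤ 324 * s ^ 2 * e ^ 2 := Nat.mul_le_mul_right _ (Nat.mul_le_mul_left _ hq)
      _ = (18 * s) ^ 2 * e ^ 2 := by ring
      _ < _ := hlt
  have h6 := six_le_pow e he
  have hc : (p ^ 2 * e ^ 2) ^ 3 ≤ (648 * 2 ^ e) ^ 3 := by
    calc (p ^ 2 * e ^ 2) ^ 3 = (p ^ 3) ^ 2 * e ^ 6 := by ring
      _ ≤ (4 * 2 ^ e) ^ 2 * (2000 * 2 ^ e) := Nat.mul_le_mul (Nat.pow_le_pow_left hpe 2) h6
      _ = 32000 * (2 ^ e) ^ 3 := by ring
      _ ≤ 648 ^ 3 * (2 ^ e) ^ 3 := Nat.mul_le_mul_right _ (by norm_num)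
      _ = _ := by ring
  exact absurd (Nat.pow_lt_pow_left hb (by norm_num : 3 ≠ 0)) (not_lt.mpr hc)

set_option maxHeartbeats 1000000 in
/-- The linear case. -/
theorem linear_bound [Nontrivial V] {p : ℕ} (hp : p.Prime) (hp97 : 97 ≤ p)
    {H : Subgroup (AddMonoid.End V)ˣ} (hsol : Group.IsSolvable H) (hirr : Irr H)
    {z : (AddMonoid.End V)ˣ} (hzH : z ∈ H) (hzp : z ^ p = 1) (hz1 : z ≠ 1)
    (hnorm : ∀ h ∈ H, h * z * h⁻¹ ∈ Subgroup.zpowers z) {v : ℕ}
    (hv : Nat.card V ≤ 1 + v * Nat.card H) : p ≤ 3 * Nat.log 2 p * (kc H + v) := by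
  classical
  haveI := finite_End V
  haveI := Fact.mk hp
  haveI := hsol
  set l := Nat.log 2 p
  have hl : 6 ≤ l := Nat.le_log_of_pow_le (by norm_num) (by omega)
  have hzo : orderOf z = p := orderOf_eq_prime hzp hz1
  let z' : H := ⟨z, hzH⟩
  let P : Subgroup H := Subgroup.zpowers z'
  have hmemP : ∀ h : H, h ∈ P ↔ (h : (AddMonoid.End V)ˣ) ∈ Subgroup.zpowers z := by
    intro h
    constructor
    · rintro ⟨k, rfl⟩
      exact ⟨k, rfl⟩
    · rintro ⟨k, hk⟩
      exact ⟨k, Subtype.ext hk⟩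
  haveI : P.Normal := ⟨fun x hx g => by
    obtain ⟨k, rfl⟩ := hx
    rw [hmemP]
    show (g : (AddMonoid.End V)ˣ) * z ^ k * (g : (AddMonoid.End V)ˣ)⁻¹ ∈ _
    rw [← conj_zpow]
    exact Subgroup.zpow_mem _ (hnorm g g.2) k⟩
  have hPc : Nat.card P = p := by
    rw [Nat.card_zpowers, ← orderOf_injective H.subtype H.subtype_injective]
    exact hzo
  let C : Subgroup H := Subgroup.centralizer (P : Set H)
  haveI : C.Normal := Subgroup.normal_centralizer
  set e := C.index with he
  have he0 : 0 < e := Nat.pos_of_ne_zero Subgroup.index_ne_zero_of_finite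
  obtain ⟨w, hw, hwP⟩ := classes_add_le P
  rw [hPc] at hwP
  have hk0 : 0 < kc (H ⧸ P) := kc_pos _
  by_cases hsmall : e ≤ 3 * l
  · calc p ≤ 1 + w * e := hwP
      _ ≤ (w + 1) * e := by rw [add_mul, one_mul]; omega
      _ ≤ (kc H + v) * (3 * l) := Nat.mul_le_mul (by omega) hsmall
      _ = _ := mul_comm _ _
  have hfix : ∀ x : V, z • x = x → x = 0 := by
    let F : AddSubgroup V :=
      { carrier := {x | z • x = x}
        zero_mem' := smul_zero z
        add_mem' := fun {a b} (ha : z • a = a) (hb : z • b = b) => by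
          show z • (a + b) = a + b; rw [smul_add, ha, hb]
        neg_mem' := fun {a} (ha : z • a = a) => by show z • (-a) = -a; rw [smul_neg, ha] }
    have hF : ∀ g ∈ H, ∀ x ∈ F, g • x ∈ F := by
      intro g hg x (hx : z • x = x)
      have h1 := hnorm g⁻¹ (inv_mem hg)
      rw [inv_inv] at h1
      have h2 : (g⁻¹ * z * g) • x = x :=
        Subgroup.zpowers_le.mpr (show z ∈ MulAction.stabilizer (AddMonoid.End V)ˣ x from hx) h1
      rw [mul_smul, mul_smul, inv_smul_eq_iff] at h2
      exact h2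
    rcases hirr F hF with h | h
    · exact fun x hx => (AddSubgroup.eq_bot_iff_forall F).mp h x hx
    · exact absurd (Units.ext (DFunLike.ext _ _ fun x =>
        show z • x = x from (h ▸ AddSubgroup.mem_top x : x ∈ F)) : z = 1) hz1
  have hCz : ∀ h : H, (h : (AddMonoid.End V)ˣ) * z = z * h → h ∈ C := by
    intro h hh
    refine Subgroup.mem_centralizer_iff.mpr ?_
    rintro _ ⟨k, rfl⟩
    exact ((Commute.zpow_right (show Commute h z' from Subtype.ext hh) k).eq).symm
  have h2e := two_pow_le_val hp hzp hfix hnorm hCz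
  let C' : Subgroup (AddMonoid.End V)ˣ := C.map H.subtype
  have hzC : z' ∈ C := hCz z' rfl
  have hC'cr : CR C' := cr_of_normal hirr (by
    rintro g hg _ ⟨x, hx, rfl⟩
    exact ⟨_, Subgroup.Normal.conj_mem' inferInstance x hx ⟨g, hg⟩, rfl⟩)
  obtain ⟨c, hc, hcV⟩ := centre_bound hp hp97 (Nat.card V + 1) V C' (Nat.lt_succ_self _)
    (solvable_range inferInstance (H.subtype.comp C.subtype) |> fun h => by
      rwa [MonoidHom.range_comp, Subgroup.range_subtype] at h) hC'cr z ⟨z', hzC, rfl⟩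
    (by
      rintro _ ⟨x, hx, rfl⟩
      exact congrArg Subtype.val (Subgroup.mem_centralizer_iff.mp hx z'
        (Subgroup.mem_zpowers z')).symm) hzp hfix
  have hcC : Dn C c := hc.congr (C.equivMapOfInjective H.subtype H.subtype_injective).symm
  have hcH : Nat.card H ≤ e ^ 2 * c * kc H := by
    calc Nat.card H = Nat.card C * e := (Subgroup.card_mul_index C).symm
      _ ≤ c * (e * kc H) * e := Nat.mul_le_mul_right _
          ((show Nat.card C ≤ c * kc C from hcC).trans (Nat.mul_le_mul_left _ (kc_le_index_mul C)))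
      _ = _ := by ring
  have hV2 : 2 ≤ Nat.card V := Finite.one_lt_card
  have hc0 : 0 < c := by
    rcases Nat.eq_zero_or_pos c with rfl | h
    · have := (show Nat.card C ≤ 0 * kc C from hcC); have : 0 < Nat.card C := Nat.card_pos; omega
    · exact h
  have hmain : 2 ^ e ≤ 2 * (kc H * v * e ^ 2) := by
    refine Nat.le_of_mul_le_mul_left (c := c) ?_ hc0
    calc c * 2 ^ e ≤ c * Nat.card (Val (z : AddMonoid.End V)) := Nat.mul_le_mul_left _ h2e
      _ ≤ 2 * (v * Nat.card H) := by omega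
      _ ≤ 2 * (v * (e ^ 2 * c * kc H)) := Nat.mul_le_mul_left _ (Nat.mul_le_mul_left _ hcH)
      _ = _ := by ring
  by_contra hcon
  refine numeric (p := p) (s := kc H + v) (q := kc H * v) (by omega) ?_ ?_ ?_ hmain
  · have := Nat.mul_le_mul_right (kc H + v) (show 18 ≤ 3 * l by omega)
    omega
  · zify
    nlinarith [sq_nonneg ((kc H : ℤ) - v)]
  · calc p ^ 3 ≤ (2 ^ (l + 1)) ^ 3 := Nat.pow_le_pow_left
          (Nat.lt_pow_succ_log_self (by norm_num) p).le 3
      _ = 2 ^ (3 * l + 3) := by rw [← pow_mul]; congr 1; ring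
      _ ≤ 2 ^ (2 + e) := Nat.pow_le_pow_right (by norm_num) (by omega)
      _ = _ := by rw [pow_add]; norm_num

end Cfsg.Agent.SolvDense
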