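import Cfsg.Agent.SolvDense.Main
import Mathlib.RingTheory.Polynomial.Basic

/-!
The ring of polynomial values of one linear map.
-/

set_option autoImplicit false
set_option linter.style.haveILetI false
set_option linter.unusedSectionVars false

namespace Cfsg.Agent.SolvDense

open Polynomial

/-- The polynomial values of `z`. -/
def Val {V : Type*} [AddCommGroup V] (z : AddMonoid.End V) : Set (AddMonoid.End V) :=
  Set.range fun P : ℤ[X] => aeval z P

variable {U V : Type*} [AddCommGroup U] [AddCommGroup V]

theorem eval_intertwine (ι : U →+ V) {z' : AddMonoid.End U} {z : AddMonoid.End V}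
    (h : ∀ u, ι (z' u) = z (ι u)) (P : ℤ[X]) :
    ∀ u, ι ((aeval z' P : AddMonoid.End U) u) = (aeval z P : AddMonoid.End V) (ι u) := by
  induction P using Polynomial.induction_on' with
  | add P Q hP hQ =>
    intro u
    rw [map_add, map_add]
    show ι ((aeval z' P : AddMonoid.End U) u + (aeval z' Q : AddMonoid.End U) u) = _
    rw [map_add, hP, hQ]
    rfl
  | monomial n a =>
    intro u
    rw [aeval_monomial, aeval_monomial, AddMonoid.End.coe_mul, AddMonoid.End.coe_mul,
      Function.comp_apply, Function.comp_apply]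
    have hpow : ∀ m : ℕ, ∀ x, ι ((z' ^ m) x) = (z ^ m) (ι x) := by
      intro m
      induction m with
      | zero => intro x; rfl
      | succ m ih =>
        intro x
        rw [pow_succ, pow_succ, AddMonoid.End.coe_mul, AddMonoid.End.coe_mul, Function.comp_apply,
          Function.comp_apply, ih, h]
    rw [algebraMap_int_eq, algebraMap_int_eq, eq_intCast, eq_intCast, AddMonoid.End.intCast_apply,
      AddMonoid.End.intCast_apply, map_zsmul, hpow]

theorem commute_eval {z g : AddMonoid.End V} (h : Commute g z) (P : ℤ[X]) :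
    Commute g (aeval z P : AddMonoid.End V) := by
  induction P using Polynomial.induction_on' with
  | add P Q hP hQ => rw [map_add]; exact hP.add_right hQ
  | monomial n a =>
    rw [aeval_monomial]
    exact (Algebra.commute_algebraMap_right a g).mul_right (h.pow_right n)

theorem finite_End (V : Type*) [AddCommGroup V] [Finite V] : Finite (AddMonoid.End V) :=
  Finite.of_injective _ DFunLike.coe_injective

variable [Finite V]

/-- Separation by a family of invariant pieces bounds the number of values. -/
theorem val_le_prod {ι : Type*} [Fintype ι] {W : ι → Type*} [∀ i, AddCommGroup (W i)]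
    [∀ i, Finite (W i)] (z : AddMonoid.End V) (zs : ∀ i, AddMonoid.End (W i)) (f : ∀ i, W i →+ V)
    (hz : ∀ i w, f i (zs i w) = z (f i w))
    (hspan : ∀ a b : AddMonoid.End V, (∀ i w, a (f i w) = b (f i w)) → a = b) :
    Nat.card (Val z) ≤ ∏ i, Nat.card (Val (zs i)) := by
  classical
  haveI := fun i => finite_End (W i)
  rw [← Nat.card_pi]
  refine Nat.card_le_card_of_injective (fun a i => ⟨aeval (zs i) a.2.choose, _, rfl⟩) ?_
  intro a b h
  refine Subtype.ext ?_
  rw [← a.2.choose_spec, ← b.2.choose_spec]
  refine hspan _ _ fun i w => ?_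
  rw [← eval_intertwine (f i) (hz i), ← eval_intertwine (f i) (hz i)]
  exact congrArg (f i) (DFunLike.congr_fun (congrArg Subtype.val (congrFun h i)) w)

/-- Values separated by one piece. -/
theorem val_le_piece {W : Type*} [AddCommGroup W] [Finite W] (z : AddMonoid.End V)
    (z' : AddMonoid.End W) (f : W →+ V) (hz : ∀ w, f (z' w) = z (f w))
    (hspan : ∀ P Q : ℤ[X],
      (∀ w, (aeval z P : AddMonoid.End V) (f w) = (aeval z Q : AddMonoid.End V) (f w)) →
      (aeval z P : AddMonoid.End V) = aeval z Q) :
    Nat.card (Val z) ≤ Nat.card (Val z') := by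
  classical
  haveI := finite_End W
  refine Nat.card_le_card_of_injective (fun a => ⟨aeval z' a.2.choose, _, rfl⟩) ?_
  intro a b h
  refine Subtype.ext ?_
  rw [← a.2.choose_spec, ← b.2.choose_spec]
  refine hspan _ _ fun w => ?_
  rw [← eval_intertwine f hz, ← eval_intertwine f hz]
  exact congrArg f (DFunLike.congr_fun (congrArg Subtype.val h) w)

/-- `p ≤ |Val z|` for `z` of order `p`. -/
theorem le_card_val {p : ℕ} (hp : p.Prime) {z : (AddMonoid.End V)ˣ} (hzp : z ^ p = 1)
    (hz1 : z ≠ 1) : p ≤ Nat.card (Val (z : AddMonoid.End V)) := by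
  haveI := finite_End V
  haveI := Fact.mk hp
  have ho : orderOf z = p := orderOf_eq_prime hzp hz1
  calc p = Nat.card (Fin p) := (Nat.card_fin p).symm
    _ ≤ _ := Nat.card_le_card_of_injective
      (fun i : Fin p => (⟨((z : AddMonoid.End V)) ^ (i : ℕ), X ^ (i : ℕ), by
        show aeval (z : AddMonoid.End V) (X ^ (i : ℕ)) = _
        rw [map_pow, aeval_X]⟩ : Val (z : AddMonoid.End V))) fun i j h => by
        have h' : (z : AddMonoid.End V) ^ (i : ℕ) = (z : AddMonoid.End V) ^ (j : ℕ) :=
          congrArg Subtype.val h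
        rw [← Units.val_pow_eq_pow_val, ← Units.val_pow_eq_pow_val] at h'
        exact Fin.ext (pow_injOn_Iio_orderOf (x := z) (by simp [ho]) (by simp [ho]) (Units.ext h'))

/-- On an irreducible piece non-zero values are injective. -/
theorem val_injective {H : Subgroup (AddMonoid.End V)ˣ} (hirr : BaseSize.Irr H)
    {z : AddMonoid.End V} (hc : ∀ g ∈ H, Commute (g : AddMonoid.End V) z) {a : AddMonoid.End V}
    (ha : a ∈ Val z) (ha0 : a ≠ 0) : Function.Injective a := by
  obtain ⟨P, rfl⟩ := ha
  have hinv : ∀ g ∈ H, ∀ v ∈ (AddMonoidHom.ker (aeval z P : AddMonoid.End V) : AddSubgroup V),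
      g • v ∈ (AddMonoidHom.ker (aeval z P : AddMonoid.End V) : AddSubgroup V) := by
    intro g hg v hv
    show (aeval z P : AddMonoid.End V) ((g : AddMonoid.End V) v) = 0
    have := DFunLike.congr_fun (commute_eval (hc g hg) P).eq v
    rw [AddMonoid.End.coe_mul, AddMonoid.End.coe_mul, Function.comp_apply,
      Function.comp_apply] at this
    rw [← this, show (aeval z P : AddMonoid.End V) v = 0 from hv, map_zero]
  rcases hirr _ hinv with h | h
  · exact (injective_iff_map_eq_zero _).mpr fun v hv =>
      (AddSubgroup.eq_bot_iff_forall _).mp h v hv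
  · refine absurd (DFunLike.ext (aeval z P : AddMonoid.End V) 0 fun v => ?_) ha0
    exact (h ▸ AddSubgroup.mem_top v : v ∈ AddMonoidHom.ker (aeval z P : AddMonoid.End V))

end Cfsg.Agent.SolvDense
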