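import Cfsg.Agent.SolvBound.Split

/-!
Reducible and imprimitive soluble linear groups: the embeddings behind `SolvBound.Split`.
-/

set_option autoImplicit false
open scoped Pointwise

namespace Cfsg.Agent.SolvDense

open BaseSize SolvBound

variable {V : Type} [AddCommGroup V] [Finite V]

/-- Reducible groups. -/
theorem reducible_hom {H : Subgroup (AddMonoid.End V)ˣ} (hsol : Group.IsSolvable H) (hcr : CR H)
    (hirr : ¬ Irr H) :
    ∃ (V₁ V₂ : Type) (_ : AddCommGroup V₁) (_ : AddCommGroup V₂) (_ : Finite V₁) (_ : Finite V₂)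
      (H₁ : Subgroup (AddMonoid.End V₁)ˣ) (H₂ : Subgroup (AddMonoid.End V₂)ˣ),
      Group.IsSolvable H₁ ∧ CR H₁ ∧ Group.IsSolvable H₂ ∧ CR H₂ ∧ 2 ≤ Nat.card V₁ ∧
      2 ≤ Nat.card V₂ ∧ Nat.card V = Nat.card V₁ * Nat.card V₂ ∧
      ∃ f : H →* H₁ × H₂, Function.Injective f := by
  classical
  obtain ⟨U, hU, hU0, hU1⟩ : ∃ U : AddSubgroup V,
      (∀ g ∈ H, ∀ v ∈ U, g • v ∈ U) ∧ U ≠ ⊥ ∧ U ≠ ⊤ := by
    by_contra hc
    push Not at hc
    exact hirr fun W hW => or_iff_not_imp_left.mpr (hc W hW)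
  obtain ⟨W, hW, hinf, hsup⟩ := hcr U hU
  have hW0 : W ≠ ⊥ := fun h => hU1 (by rwa [h, sup_bot_eq] at hsup)
  let f₁ := resHom H.subtype U fun g => hU g g.2
  let f₂ := resHom H.subtype W fun g => hW g g.2
  let e : U × W → V := fun x => (x.1 : V) + x.2
  have hinj : Function.Injective e := by
    rintro ⟨a, b⟩ ⟨c, d⟩ h
    have hm : (a : V) - c ∈ U ⊓ W := ⟨U.sub_mem a.2 c.2, by
      rw [show (a : V) - c = d - b by rw [sub_eq_sub_iff_add_eq_add]; exact h.trans (add_comm _ _)]
      exact W.sub_mem d.2 b.2⟩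
    rw [hinf, AddSubgroup.mem_bot, sub_eq_zero] at hm
    have h1 : a = c := Subtype.ext hm
    subst h1
    exact Prod.ext rfl (Subtype.ext (add_left_cancel h))
  have hsurj : Function.Surjective e := fun v => by
    obtain ⟨a, ha, b, hb, rfl⟩ := AddSubgroup.mem_sup.mp (hsup ▸ AddSubgroup.mem_top v :)
    exact ⟨(⟨a, ha⟩, ⟨b, hb⟩), rfl⟩
  have hker : ∀ g : H, f₁ g = 1 → f₂ g = 1 → g = 1 := by
    intro g h1 h2
    refine Subtype.ext (Units.ext (DFunLike.ext _ _ fun v => ?_))
    obtain ⟨⟨a, b⟩, rfl⟩ := hsurj v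
    show (g : (AddMonoid.End V)ˣ) • ((a : V) + b) = (a : V) + b
    rw [smul_add]
    congr 1
    · exact congrArg Subtype.val (congrArg (fun u : (AddMonoid.End U)ˣ => u • a) h1) |>.trans
        (by rw [one_smul])
    · exact congrArg Subtype.val (congrArg (fun u : (AddMonoid.End W)ˣ => u • b) h2) |>.trans
        (by rw [one_smul])
  have htwo : ∀ X : AddSubgroup V, X ≠ ⊥ → 2 ≤ Nat.card X := fun X hX => by
    haveI := (AddSubgroup.nontrivial_iff_ne_bot X).mpr hX
    exact Finite.one_lt_card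
  refine ⟨U, W, inferInstance, inferInstance, inferInstance, inferInstance, f₁.range, f₂.range,
    solvable_range hsol f₁, cr_restrict hcr U _, solvable_range hsol f₂, cr_restrict hcr W _,
    htwo U hU0, htwo W hW0, ?_, f₁.rangeRestrict.prod f₂.rangeRestrict, ?_⟩
  · rw [← Nat.card_prod]
    exact (Nat.card_eq_of_bijective e ⟨hinj, hsurj⟩).symm
  · refine (injective_iff_map_eq_one _).mpr fun g hg => hker g ?_ ?_
    · exact congrArg Subtype.val (congrArg Prod.fst hg)
    · exact congrArg Subtype.val (congrArg Prod.snd hg)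

/-- Imprimitive groups. -/
theorem imprimitive_hom {H : Subgroup (AddMonoid.End V)ˣ} (hsol : Group.IsSolvable H)
    (hirr : Irr H) {t : ℕ} (ht : 2 ≤ t) (d : Decomp H (Fin t)) :
    ∃ (c : ℕ) (W : Fin t → Type) (_ : ∀ i, AddCommGroup (W i)) (_ : ∀ i, Finite (W i))
      (K : ∀ i, Subgroup (AddMonoid.End (W i))ˣ) (T : Subgroup (Equiv.Perm (Fin t))),
      (∀ i, Group.IsSolvable (K i)) ∧ (∀ i, CR (K i)) ∧ Group.IsSolvable T ∧ 2 ≤ c ∧
      (∀ i, Nat.card (W i) = c) ∧ Nat.card V = c ^ t ∧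
      ∃ π : H →* Equiv.Perm (Fin t), π.range = T ∧
        ∃ f : ∀ i, π.ker →* K i, ∀ g, (∀ i, f i g = 1) → g = 1 := by
  classical
  haveI : Nonempty (Fin t) := ⟨⟨0, by omega⟩⟩
  haveI := hsol
  let W : Fin t → AddSubgroup V := fun i => AddMonoidHom.range (d.p i)
  have hfix : ∀ i, ∀ v ∈ W i, d.p i v = v := by
    rintro i _ ⟨w, rfl⟩
    exact DFunLike.congr_fun (d.idem i) w
  let St : Fin t → Subgroup H := fun i => (MulAction.stabilizer (Equiv.Perm (Fin t)) i).comap d.π
  have hmove : ∀ (g : H) (i : Fin t), ∀ v ∈ W i, g • v ∈ W (d.π g i) := fun g i v hv => by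
    rw [← hfix i v hv, d.smul_p]
    exact ⟨_, rfl⟩
  have hinv : ∀ i, ∀ g : St i, ∀ v ∈ W i, (H.subtype.comp (St i).subtype) g • v ∈ W i := by
    intro i g v hv
    have h := hmove g i v hv
    have hg : d.π (g : H) i = i := g.2
    rw [hg] at h
    exact h
  let f : ∀ i, St i →* (AddMonoid.End (W i))ˣ := fun i =>
    resHom (H.subtype.comp (St i).subtype) (W i) (hinv i)
  -- the pieces have equal sizes
  have hle : ∀ i j, Nat.card (W i) ≤ Nat.card (W j) := fun i j => by
    obtain ⟨g, hg⟩ := d.transitive hirr i j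
    refine Nat.card_le_card_of_injective (fun v : W i => (⟨g • (v : V), hg ▸ hmove g i v v.2⟩ : W j))
      fun v w h => Subtype.ext (MulAction.injective g (congrArg Subtype.val h))
  have hirrW : ∀ i, Irr (f i).range := by
    intro i M hM
    let M₀ : AddSubgroup V := M.map (W i).subtype
    let g0 : H → (V →+ V) := fun g => DistribSMul.toAddMonoidHom V (g : (AddMonoid.End V)ˣ)
    let M' : AddSubgroup V := ⨆ g : H, M₀.map (g0 g)
    have hM'inv : ∀ g ∈ H, ∀ v ∈ M', g • v ∈ M' := by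
      intro g hg v hv
      have : M'.map (g0 ⟨g, hg⟩) ≤ M' := by
        simp only [M']
        rw [AddSubgroup.map_iSup]
        refine iSup_le fun g' => ?_
        refine le_iSup_of_le (⟨g, hg⟩ * g') ?_
        rw [AddSubgroup.map_map]
        have hc : (g0 ⟨g, hg⟩).comp (g0 g') = g0 (⟨g, hg⟩ * g') :=
          AddMonoidHom.ext fun x => (mul_smul g (g' : (AddMonoid.End V)ˣ) x).symm
        rw [hc]
      exact this ⟨v, hv, rfl⟩
    have hproj : ∀ v ∈ M', d.p i v ∈ M₀ := by
      intro v hv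
      refine (iSup_le (a := M₀.comap (d.p i : V →+ V)) fun g => ?_) hv
      rintro _ ⟨_, ⟨w, hw, rfl⟩, rfl⟩
      show d.p i (g • (w : V)) ∈ M₀
      rw [← hfix i w w.2, d.smul_p, d.p_p]
      by_cases h : i = d.act g i
      · rw [if_pos h, ← d.smul_p, hfix i w w.2]
        have hg : g ∈ St i := h.symm
        exact ⟨f i ⟨g, hg⟩ • w, hM _ ⟨⟨g, hg⟩, rfl⟩ w hw, rfl⟩
      · rw [if_neg h]
        exact zero_mem _
    rcases hirr M' hM'inv with h | h
    · left
      rw [AddSubgroup.eq_bot_iff_forall]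
      intro w hw
      have hm : (w : V) ∈ M' := (le_iSup (fun g : H => M₀.map (g0 g)) 1)
        ⟨w, ⟨w, hw, rfl⟩, one_smul _ _⟩
      rw [h, AddSubgroup.mem_bot] at hm
      exact Subtype.ext hm
    · right
      rw [AddSubgroup.eq_top_iff']
      intro w
      obtain ⟨w', hw', he⟩ : (w : V) ∈ M₀ := hfix i w w.2 ▸ hproj w (h ▸ AddSubgroup.mem_top _)
      exact (Subtype.ext he : w' = w) ▸ hw'
  let k : ∀ i, d.π.ker →* (f i).range := fun i =>
    (f i).rangeRestrict.comp (Subgroup.inclusion (show d.π.ker ≤ St i from fun g hg => by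
      show d.π g i = i
      rw [MonoidHom.mem_ker.mp hg]
      rfl))
  have hker : ∀ g : d.π.ker, (∀ i, k i g = 1) → g = 1 := by
    intro g hg
    refine Subtype.ext (Subtype.ext (Units.ext (DFunLike.ext _ _ fun v => ?_)))
    show ((g : H) : (AddMonoid.End V)ˣ) • v = v
    refine (congrArg (((g : H) : (AddMonoid.End V)ˣ) • ·) (d.apply_total v).symm).trans ?_
    refine (Finset.smul_sum).trans (Eq.trans ?_ (d.apply_total v))
    refine Finset.sum_congr rfl fun i _ => ?_
    have h1 : f i _ = 1 := congrArg Subtype.val (hg i)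
    have := congrArg (fun u : (AddMonoid.End (W i))ˣ => ((u • ⟨d.p i v, _, rfl⟩ : W i) : V)) h1
    simp only [one_smul] at this
    exact this
  let e : (∀ i, W i) → V := fun x => ∑ i, ((x i : V))
  have hpe : ∀ (x : ∀ i, W i) i, d.p i (e x) = x i := fun x i => by
    rw [map_sum, Finset.sum_eq_single i]
    · exact hfix i _ (x i).2
    · intro j _ hj
      rw [← hfix j _ (x j).2, d.p_p, if_neg (Ne.symm hj)]
    · exact fun h => absurd (Finset.mem_univ i) h
  have he : Function.Bijective e := by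
    refine ⟨fun x y h => funext fun i => Subtype.ext ?_, fun v => ⟨fun i => ⟨d.p i v, v, rfl⟩, ?_⟩⟩
    · rw [← hpe x i, h, hpe y i]
    · exact d.apply_total v
  clear_value f
  let i₀ : Fin t := ⟨0, by omega⟩
  have hcard : ∀ i, Nat.card (W i) = Nat.card (W i₀) := fun i => le_antisymm (hle i i₀) (hle i₀ i)
  have hV : Nat.card V = Nat.card (W i₀) ^ t := by
    calc Nat.card V = Nat.card (∀ i, W i) := (Nat.card_eq_of_bijective e he).symm
      _ = ∏ i, Nat.card (W i) := Nat.card_pi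
      _ = ∏ _i : Fin t, Nat.card (W i₀) := Finset.prod_congr rfl fun i _ => hcard i
      _ = Nat.card (W i₀) ^ t := by rw [Finset.prod_const, Finset.card_univ, Fintype.card_fin]
  have hc2 : 2 ≤ Nat.card (W i₀) := by
    haveI : Nontrivial (W i₀) := by
      rw [AddSubgroup.nontrivial_iff_ne_bot]
      intro h
      exact d.nonzero _ (AddMonoidHom.range_eq_bot_iff.mp h)
    exact Finite.one_lt_card
  exact ⟨Nat.card (W i₀), fun i => W i, fun i => inferInstance, fun i => inferInstance,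
    fun i => (f i).range, d.π.range, fun i => solvable_range inferInstance (f i),
    fun i => cr_of_irr (hirrW i), solvable_range hsol d.π, hc2, hcard, hV, d.π, rfl, k, hker⟩

end Cfsg.Agent.SolvDense
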