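import Cfsg.Agent.SolvDense.Prim
import Cfsg.Agent.SolvDense.Split

/-!
The class number bound for all completely reducible soluble linear groups.
-/

set_option autoImplicit false
set_option linter.style.haveILetI false

namespace Cfsg.Agent.SolvDense

open BaseSize SolvBound

theorem nine_pow_le : ∀ t, 5 ≤ t → 5 * 9 ^ (t - 1) ≤ 29 * 11 ^ (t - 2) := by
  intro t ht
  induction t, ht using Nat.le_induction with
  | base => norm_num
  | succ t ht ih =>
    rw [show t + 1 - 1 = t - 1 + 1 by omega, show t + 1 - 2 = t - 2 + 1 by omega, pow_succ,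
      pow_succ 11]
    omega

theorem six_nine_pow_le : ∀ t, 2 ≤ t → 5 * (6 ^ t * 9 ^ (t - 1)) ≤ 29 * 121 ^ (t - 1) := by
  intro t ht
  induction t, ht using Nat.le_induction with
  | base => norm_num
  | succ t ht ih =>
    rw [show t + 1 - 1 = t - 1 + 1 by omega, pow_succ 9, pow_succ 121, pow_succ 6]
    have : 6 ^ t * 6 * (9 ^ (t - 1) * 9) = 54 * (6 ^ t * 9 ^ (t - 1)) := by ring
    omega

/-- The uniform bound in dimension at least two. -/
theorem le_six_pow {p m c : ℕ} (hp : 11 ≤ p) (hm : 2 ≤ m)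
    (h2 : m = 2 → c ≤ 6) (h3 : 3 ≤ m → 5 * c ≤ 29 * p ^ (m - 2)) : c ≤ 6 * p ^ (m - 2) := by
  rcases Nat.lt_or_ge m 3 with h | h
  · obtain rfl : m = 2 := by omega
    simpa using h2 rfl
  · have := h3 h
    omega

/-- **All completely reducible soluble groups.** -/
theorem good_all (p : ℕ) (hp : p.Prime) : ∀ N, ∀ (V : Type) [AddCommGroup V] [Finite V],
    Nontrivial V → Nat.card V = p ^ N → ∀ H : Subgroup (AddMonoid.End V)ˣ,
    Group.IsSolvable H → CR H → Good p N H := by
  intro N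
  induction N using Nat.strong_induction_on with
  | _ N ih =>
  intro V _ _ hV hcard H hsol hcr
  classical
  haveI := hV
  haveI := hsol
  have hcomp : ∀ (W : Type) [AddCommGroup W] [Finite W] (m : ℕ) (K : Subgroup (AddMonoid.End W)ˣ),
      Nat.card W = p ^ m → 1 ≤ m → m < N → Group.IsSolvable K → CR K →
      ∃ c, Dn K c ∧ (m = 1 → c ≤ 1) ∧ (m = 2 → c ≤ 6) ∧
        (3 ≤ m → 11 ≤ p → 5 * c ≤ 29 * p ^ (m - 2)) := by
    intro W _ _ m K hW hm hlt hs hc
    haveI : Nontrivial W := Finite.one_lt_card_iff_nontrivial.mp (by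
      rw [hW]; exact Nat.one_lt_pow (by omega) hp.one_lt)
    obtain ⟨c, h0, h1, h2, h3⟩ := ih m hlt W inferInstance hW K hs hc
    exact ⟨c, h0, h1, fun h => (h2 h).elim (fun h' => by omega) And.left, h3⟩
  by_cases hirr : Irr H
  swap
  · obtain ⟨V₁, V₂, _, _, _, _, H₁, H₂, hs₁, hc₁, hs₂, hc₂, h1, h2, hVc, f, hf⟩ :=
      reducible_hom hsol hcr hirr
    obtain ⟨a, -, ha⟩ := (Nat.dvd_prime_pow hp).mp ⟨_, hcard.symm.trans hVc⟩
    obtain ⟨b, -, hb⟩ := (Nat.dvd_prime_pow hp).mp ⟨_, (hcard.symm.trans hVc).trans (mul_comm _ _)⟩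
    have hab : a + b = N := by
      rw [hcard, ha, hb, ← pow_add] at hVc
      exact (Nat.pow_right_injective hp.two_le hVc).symm
    have ha1 : 1 ≤ a := by
      rcases Nat.eq_zero_or_pos a with rfl | h
      · rw [ha, pow_zero] at h1; omega
      · exact h
    have hb1 : 1 ≤ b := by
      rcases Nat.eq_zero_or_pos b with rfl | h
      · rw [hb, pow_zero] at h2; omega
      · exact h
    obtain ⟨c₁, d₁, e₁, f₁, g₁⟩ := hcomp V₁ a H₁ ha ha1 (by omega) hs₁ hc₁
    obtain ⟨c₂, d₂, e₂, f₂, g₂⟩ := hcomp V₂ b H₂ hb hb1 (by omega) hs₂ hc₂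
    refine ⟨c₁ * c₂, (d₁.prod d₂).comap f hf, fun h => by omega, fun h => Or.inl ?_,
      fun h h11 => ?_⟩
    · have := Nat.mul_le_mul (e₁ (by omega)) (e₂ (by omega))
      omega
    · rcases Nat.lt_or_ge a 2 with ha2 | ha2
      · have h5 := Nat.mul_le_mul_right c₂ (e₁ (by omega))
        rcases Nat.lt_or_ge b 3 with hb3 | hb3
        · have := f₂ (by omega)
          rw [show N - 2 = 1 by omega, pow_one]
          omega
        · have := g₂ hb3 h11
          have := Nat.pow_le_pow_right hp.pos (show b - 2 ≤ N - 2 by omega)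
          omega
      rcases Nat.lt_or_ge b 2 with hb2 | hb2
      · have h5 := Nat.mul_le_mul_left c₁ (e₂ (by omega))
        rcases Nat.lt_or_ge a 3 with ha3 | ha3
        · have := f₁ (by omega)
          rw [show N - 2 = 1 by omega, pow_one]
          omega
        · have := g₁ ha3 h11
          have := Nat.pow_le_pow_right hp.pos (show a - 2 ≤ N - 2 by omega)
          omega
      · have h5 := Nat.mul_le_mul (le_six_pow h11 ha2 f₁ (fun hh => g₁ hh h11))
          (le_six_pow h11 hb2 f₂ (fun hh => g₂ hh h11))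
        rw [show 6 * p ^ (a - 2) * (6 * p ^ (b - 2)) = 36 * p ^ (a - 2 + (b - 2)) by ring] at h5
        rw [show N - 2 = a - 2 + (b - 2) + 2 by omega, pow_add]
        have h121 : 121 ≤ p ^ 2 := Nat.pow_le_pow_left h11 2
        have := Nat.mul_le_mul_left (p ^ (a - 2 + (b - 2))) h121
        omega
  by_cases hno : NoDecomp H
  · exact prim_good hp hcard hsol hirr hno
  simp only [NoDecomp, not_forall, not_isEmpty_iff] at hno
  obtain ⟨t, ht, ⟨dec⟩⟩ := hno
  obtain ⟨c, W, _, _, K, T, hKs, hKc, hTs, hc2, hWc, hVc, π, rfl, f, hf⟩ :=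
    imprimitive_hom hsol hirr ht dec
  obtain ⟨m, hm1, rfl, hmt⟩ := base_pow_split hp hc2 (by omega) (hcard.symm.trans hVc)
  have hmt' : m * t = N := by linarith
  have hlt : m < N := by
    have : m * 2 ≤ m * t := Nat.mul_le_mul_left _ ht
    omega
  have hidx : π.ker.index = Nat.card π.range := Subgroup.index_ker π
  have hfac : Nat.card π.range ≤ t.factorial := card_perm_subgroup_le π.range
  choose cs hcs hcs1 hcs2 hcs3 using fun i => hcomp (W i) m (K i) (hWc i) hm1 hlt (hKs i) (hKc i)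
  have hD : Dn H ((∏ i, cs i) * Nat.card π.range ^ 2) := by
    rw [← hidx]
    exact Dn.of_subgroup π.ker (Dn.pi_comap cs hcs f hf)
  rcases Nat.lt_or_ge m 2 with hm2 | hm2
  · obtain rfl : m = 1 := by omega
    obtain rfl : t = N := by omega
    refine ⟨_, hD.mono (Nat.mul_le_mul_right _ (Finset.prod_le_one' fun i _ => hcs1 i rfl)),
      fun h => absurd h (by omega), fun h => Or.inl ?_, fun h h11 => ?_⟩
    · subst h
      rw [one_mul]
      exact (Nat.pow_le_pow_left hfac 2).trans (by decide)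
    · rw [one_mul]
      rcases Nat.lt_or_ge t 5 with h5 | h5
      · have h6 := Nat.pow_le_pow_left hfac 2
        have h7 := Nat.pow_le_pow_left h11 (t - 2)
        interval_cases t <;> norm_num [Nat.factorial] at h6 h7 ⊢ <;> omega
      · haveI : Nonempty (Fin t) := ⟨⟨0, by omega⟩⟩
        have h6 := solvable_perm_card_le π.range hTs
        rw [Nat.card_fin] at h6
        have h7 := Nat.pow_le_pow_left h6 2
        rw [← pow_mul, mul_comm, pow_mul, show (3 : ℕ) ^ 2 = 9 by norm_num] at h7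
        have h8 := nine_pow_le t h5
        have h9 := Nat.pow_le_pow_left h11 (t - 2)
        omega
  · refine ⟨_, hD, fun h => absurd h (by omega), fun h => absurd h (by nlinarith),
      fun _ h11 => ?_⟩
    haveI : Nonempty (Fin t) := ⟨⟨0, by omega⟩⟩
    have h6 := solvable_perm_card_le π.range hTs
    rw [Nat.card_fin] at h6
    have h7 := Nat.pow_le_pow_left h6 2
    rw [← pow_mul, mul_comm, pow_mul, show (3 : ℕ) ^ 2 = 9 by norm_num] at h7
    have h8 : ∏ i, cs i ≤ (6 * p ^ (m - 2)) ^ t := by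
      calc ∏ i, cs i ≤ ∏ _i : Fin t, 6 * p ^ (m - 2) := Finset.prod_le_prod' fun i _ =>
            le_six_pow h11 hm2 (hcs2 i) (fun hh => hcs3 i hh h11)
        _ = _ := by rw [Finset.prod_const, Finset.card_univ, Fintype.card_fin]
    have hN : (m - 2) * t + 2 * (t - 1) = N - 2 := by
      have : (m - 2) * t + 2 * t = N := by rw [← add_mul, Nat.sub_add_cancel hm2, hmt']
      omega
    calc 5 * ((∏ i, cs i) * Nat.card π.range ^ 2)
        ≤ 5 * ((6 * p ^ (m - 2)) ^ t * 9 ^ (t - 1)) := Nat.mul_le_mul_left _ (Nat.mul_le_mul h8 h7)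
      _ = p ^ ((m - 2) * t) * (5 * (6 ^ t * 9 ^ (t - 1))) := by rw [mul_pow, ← pow_mul]; ring
      _ ≤ p ^ ((m - 2) * t) * (29 * 121 ^ (t - 1)) := Nat.mul_le_mul_left _ (six_nine_pow_le t ht)
      _ ≤ p ^ ((m - 2) * t) * (29 * (p ^ 2) ^ (t - 1)) := Nat.mul_le_mul_left _
        (Nat.mul_le_mul_left _ (Nat.pow_le_pow_left (Nat.pow_le_pow_left h11 2) _))
      _ = _ := by rw [← hN, pow_add, pow_mul p 2]; ring

end Cfsg.Agent.SolvDense
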