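import Cfsg.Agent.SolvDense.Central
import Cfsg.Agent.SolvBound.Transport

/-!
Class number bounds for primitive soluble linear groups.
-/

set_option autoImplicit false
set_option linter.style.haveILetI false

namespace Cfsg.Agent.SolvDense

open BaseSize SolvBound

/-- The bound proved for a soluble group on a space of order `p ^ D`. -/
def Good (p D : ℕ) (H : Type*) [Group H] : Prop :=
  ∃ c, Dn H c ∧ (D = 1 → c ≤ 1) ∧ (D = 2 → c ≤ 4 ∨ (c ≤ 6 ∧ Nat.card H ∣ 24 * (p - 1))) ∧
    (3 ≤ D → 11 ≤ p → 5 * c ≤ 29 * p ^ (D - 2))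

theorem sq_le_four_mul_pow : ∀ d, 2 ≤ d → d ^ 2 ≤ 4 * 11 ^ (d - 2) := by
  intro d hd
  induction d, hd using Nat.le_induction with
  | base => norm_num
  | succ d hd ih =>
    rw [show d + 1 - 2 = d - 2 + 1 by omega, pow_succ 11]
    nlinarith

theorem five_sq_le : ∀ D, 3 ≤ D → 5 * D ^ 2 ≤ 29 * 11 ^ (D - 2) := by
  intro D hD
  induction D, hD using Nat.le_induction with
  | base => norm_num
  | succ D hD ih =>
    rw [show D + 1 - 2 = D - 2 + 1 by omega, pow_succ 11]
    nlinarith

theorem seven_pow_le : ∀ e, 2 ≤ e → 20 * e ^ 7 ≤ 87 * 11 ^ (2 * e - 2) := by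
  intro e he
  induction e, he using Nat.le_induction with
  | base => norm_num
  | succ e he ih =>
    have h1 : (e + 1) ^ 7 * 2 ^ 7 ≤ e ^ 7 * 3 ^ 7 := by
      rw [← mul_pow, ← mul_pow]
      exact Nat.pow_le_pow_left (by omega) 7
    rw [show 2 * (e + 1) - 2 = 2 * e - 2 + 2 by omega, pow_add]
    norm_num at h1 ⊢
    omega

theorem seven_pow_le' : ∀ e, 6 ≤ e → 5 * e ^ 7 + 30 ≤ 174 * 11 ^ (e - 2) := by
  intro e he
  induction e, he using Nat.le_induction with
  | base => norm_num
  | succ e he ih =>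
    have h1 : (e + 1) ^ 7 * 6 ^ 7 ≤ e ^ 7 * 7 ^ 7 := by
      rw [← mul_pow, ← mul_pow]
      exact Nat.pow_le_pow_left (by omega) 7
    rw [show e + 1 - 2 = e - 2 + 1 by omega, pow_succ 11]
    norm_num at h1 ⊢
    omega

variable {G : Type} [Group G] [Finite G] (D : BD G)

theorem exp_prime {r : ℕ} (hr : r.Prime) (hW : Nat.card D.W = r ^ 2) (w : D.W) : w ^ r = 1 :=
  exp_of_squarefree hr hW D.hn D.pow_eq_one w

theorem linRange_six (hW : Nat.card D.W = 2 ^ 2) : Nat.card D.linRange ∣ 6 := by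
  classical
  haveI := Fintype.ofFinite D.W
  let f : MulAut D.W →* Equiv.Perm {w : D.W // w ≠ 1} :=
    { toFun := fun σ => σ.toEquiv.subtypeEquiv fun w => (map_ne_one_iff σ σ.injective).symm
      map_one' := Equiv.ext fun _ => rfl
      map_mul' := fun _ _ => Equiv.ext fun _ => rfl }
  have hf : Function.Injective f := fun σ τ h => MulEquiv.ext fun w => by
    by_cases hw : w = 1
    · rw [hw, map_one, map_one]
    · exact congrArg Subtype.val (DFunLike.congr_fun h ⟨w, hw⟩)
  have h := Subgroup.card_dvd_of_injective (f.comp D.linRange.subtype)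
    (hf.comp Subtype.val_injective)
  rwa [Nat.card_perm, Nat.card_eq_fintype_card (α := {w : D.W // w ≠ 1}),
    Fintype.card_subtype_compl, Fintype.card_subtype_eq, ← Nat.card_eq_fintype_card, hW] at h

theorem linRange_sl2 {r : ℕ} (hr : r.Prime) (hW : Nat.card D.W = r ^ 2) :
    Nat.card D.linRange ≤ (r ^ 2 - 1) * r := by
  haveI := Fact.mk hr
  obtain ⟨f, hf⟩ := exists_sl2_embedding D.pairing (exp_prime D hr hW) hW D.linRange
    (by rintro _ ⟨⟨g, hg⟩, rfl⟩ x y; exact D.pairing_act hg x y)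
  exact (Nat.card_le_card_of_injective f hf).trans card_sl2_le

theorem linRange_sixteen [Group.IsSolvable G] (hW : Nat.card D.W = 16) :
    Nat.card D.linRange ≤ 72 := by
  obtain ⟨V', _, _, φ, H', e, -, -, hs, hc⟩ := exists_transport D.linRange
    (solvable_range inferInstance _) D.linRange_crm
  haveI : Nontrivial V' := Finite.one_lt_card_iff_nontrivial.mp (by
    rw [← Nat.card_congr φ, hW]; norm_num)
  rw [Nat.card_congr e.toEquiv]
  exact card_le_sixteen (by rw [← Nat.card_congr φ, hW]) hs hc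

theorem linRange_general [Group.IsSolvable G] {e : ℕ} (he : 2 ≤ e) (hW : Nat.card D.W = e ^ 2) :
    3 * Nat.card D.linRange ≤ e ^ 5 := by
  obtain ⟨V', _, _, φ, H', f, -, -, hs, hc⟩ := exists_transport D.linRange
    (solvable_range inferInstance _) D.linRange_crm
  haveI : Nontrivial V' := Finite.one_lt_card_iff_nontrivial.mp (by
    rw [← Nat.card_congr φ, hW]; nlinarith)
  have h := order_bound hs hc
  rw [← Nat.card_congr φ, hW, ← Nat.card_congr f.toEquiv, ← pow_mul, show 2 * 5 = 5 * 2 by rfl,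
    pow_mul, show 9 * Nat.card D.linRange ^ 2 = (3 * Nat.card D.linRange) ^ 2 by ring] at h
  exact (Nat.pow_le_pow_iff_left two_ne_zero).mp h

theorem linRange_one {e : ℕ} (he : e = 1) (hW : Nat.card D.W = e ^ 2) :
    Nat.card D.linRange = 1 := by
  refine le_antisymm (bound_one D.linRange (by rw [hW, he])) Nat.card_pos

/-- `U` is central in `lin`. -/
theorem dn_lin {h : ℕ} (hh : Nat.card D.W * Nat.card D.linRange ≤ h) : Dn D.lin h := by
  refine Dn.of_central (U := D.U.subgroupOf D.lin)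
    (fun g u hu => Subtype.ext (D.central g g.2 u hu)) (le_trans (le_of_eq ?_) hh)
  refine Nat.eq_of_mul_eq_mul_left (Nat.card_pos (α := D.U.subgroupOf D.lin)) ?_
  rw [Subgroup.card_mul_index, card_lin,
    Nat.card_congr (Subgroup.subgroupOfEquivOfLe D.U_le).toEquiv]
  ring

set_option maxHeartbeats 1000000 in
/-- **Primitive groups.** -/
theorem prim_good {V : Type} [AddCommGroup V] [Finite V] [Nontrivial V] {p N : ℕ} (hp : p.Prime)
    {H : Subgroup (AddMonoid.End V)ˣ} (hV : Nat.card V = p ^ N) (hsol : Group.IsSolvable H)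
    (hirr : Irr H) (hno : NoDecomp H) : Good p N H := by
  classical
  obtain ⟨K, D, q, d, n, hHK, hq, hd, hn, hK, hVc, hU, hidx, hWn, -⟩ :=
    primitive_data hsol hirr hno
  obtain ⟨rfl, hdn⟩ := prime_pow_split (k := N) hq hp hd hn (by rw [← hVc, hV])
  haveI := hK
  haveI := D.cyclic
  obtain ⟨e, he⟩ := D.exists_sq
  have hen : e ≤ n := by
    rw [he] at hWn
    exact (Nat.pow_le_pow_iff_left two_ne_zero).mp hWn
  have he1 : 1 ≤ e := by
    rcases Nat.eq_zero_or_pos e with rfl | h
    · exact absurd he (by rw [zero_pow two_ne_zero]; exact Nat.card_pos.ne')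
    · exact h
  -- from `K` to `H`
  suffices h : ∃ c, Dn K c ∧ (N = 1 → c ≤ 1) ∧
      (N = 2 → c ≤ 4 ∨ (c ≤ 6 ∧ Nat.card K ∣ 24 * (q - 1))) ∧
      (3 ≤ N → 11 ≤ q → 5 * c ≤ 29 * q ^ (N - 2)) by
    obtain ⟨c, hc, h1, h2, h3⟩ := h
    exact ⟨c, hc.comap (Subgroup.inclusion hHK) (Subgroup.inclusion_injective hHK), h1,
      fun hN => (h2 hN).imp_right fun hh => ⟨hh.1, (Subgroup.card_dvd_of_le hHK).trans hh.2⟩, h3⟩
  have hlift : ∀ c, Dn D.lin c → Dn K (c * d ^ 2) := fun c hc =>
    (Dn.of_subgroup D.lin hc).mono (Nat.mul_le_mul_left _ (Nat.pow_le_pow_left hidx 2))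
  rcases Nat.lt_or_ge e 2 with he2 | he2
  · -- `e = 1`
    have he' : e = 1 := by omega
    refine ⟨1 * d ^ 2, hlift 1 (dn_lin D (by rw [linRange_one D he' he, he, he']; norm_num)),
      fun h => ?_, fun h => ?_, fun h h11 => ?_⟩
    · rw [show d = 1 by nlinarith]; norm_num
    · left
      have : d ≤ 2 := by nlinarith
      nlinarith
    · have h4 : 5 * d ^ 2 ≤ 5 * N ^ 2 :=
        Nat.mul_le_mul_left _ (Nat.pow_le_pow_left (by nlinarith) 2)
      calc 5 * (1 * d ^ 2) ≤ 5 * N ^ 2 := by rwa [one_mul]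
        _ ≤ 29 * 11 ^ (N - 2) := five_sq_le N h
        _ ≤ _ := Nat.mul_le_mul_left _ (Nat.pow_le_pow_left h11 _)
  rcases Nat.lt_or_ge d 2 with hd2 | hd2
  swap
  · -- `d ≥ 2`
    have hN : d * e ≤ N := hdn ▸ Nat.mul_le_mul_left d hen
    refine ⟨Nat.card D.W * Nat.card D.linRange * d ^ 2, hlift _ (dn_lin D le_rfl),
      fun h => absurd h (by nlinarith), fun h => absurd h (by nlinarith), fun _ h11 => ?_⟩
    have h1 := linRange_general D he2 he
    have h2 : d ^ 2 * (20 * e ^ 7) ≤ 4 * 11 ^ (d - 2) * (87 * 11 ^ (2 * e - 2)) :=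
      Nat.mul_le_mul (sq_le_four_mul_pow d hd2) (seven_pow_le e he2)
    have h3 : 11 ^ (d - 2) * 11 ^ (2 * e - 2) ≤ q ^ (N - 2) := by
      rw [← pow_add]
      refine le_trans (Nat.pow_le_pow_right (by norm_num) ?_) (Nat.pow_le_pow_left h11 _)
      have h5 : (d - 2) * 1 ≤ (d - 2) * e := Nat.mul_le_mul_left _ he1
      have h6 : d * e = (d - 2) * e + 2 * e := by rw [← add_mul]; congr 1; omega
      omega
    rw [he]
    have h7 : 3 * (5 * (e ^ 2 * Nat.card D.linRange * d ^ 2)) ≤ 5 * (d ^ 2 * e ^ 7) := by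
      calc _ = 5 * d ^ 2 * e ^ 2 * (3 * Nat.card D.linRange) := by ring
        _ ≤ 5 * d ^ 2 * e ^ 2 * e ^ 5 := Nat.mul_le_mul_left _ h1
        _ = _ := by ring
    have h8 : 4 * (5 * (d ^ 2 * e ^ 7)) ≤ 4 * (87 * q ^ (N - 2)) := by
      calc _ = d ^ 2 * (20 * e ^ 7) := by ring
        _ ≤ _ := h2
        _ = 4 * (87 * (11 ^ (d - 2) * 11 ^ (2 * e - 2))) := by ring
        _ ≤ _ := Nat.mul_le_mul_left _ (Nat.mul_le_mul_left _ h3)
    omega
  -- `d = 1`
  obtain rfl : d = 1 := by omega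
  have hN : e ≤ N := by rw [one_mul] at hdn; omega
  have hlin : D.lin = ⊤ := by
    refine Subgroup.index_eq_one.mp ?_
    have := Subgroup.index_ne_zero_of_finite (H := D.lin)
    omega
  have hc : ∀ x : K, ∀ u ∈ D.U, x * u = u * x := fun x => D.central x (hlin ▸ Subgroup.mem_top x)
  have hU' : Nat.card D.U = q - 1 := by rw [hU, pow_one]
  have hidxU := index_U D hlin
  rw [he] at hidxU
  have hL1 : 1 ≤ Nat.card D.linRange := Nat.card_pos
  have hdiv : ∀ r : ℕ, r.Prime → r ∣ e → r ∣ q - 1 := fun r hr hre =>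
    hU' ▸ D.prime_dvd_U hr (he ▸ dvd_pow hre two_ne_zero)
  -- from a bound on the index
  have hgen : ∀ h c : ℕ, D.U.index ≤ h → h ^ 2 + 2 * c ≤ 3 * c * h → 2 ≤ D.U.index → 1 ≤ c →
      Dn K c := fun h c hh hq h2 hc1 => Dn.of_central_index hc (by
    obtain ⟨a, ha⟩ := Nat.exists_eq_add_of_le h2
    obtain ⟨b, hb⟩ := Nat.exists_eq_add_of_le hh
    rcases Nat.lt_or_ge (3 * c) (h + 2) with h4 | h4
    · have := Nat.mul_le_mul_right b h4.le
      nlinarith
    · have := Nat.mul_le_mul_right a h4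
      nlinarith)
  have hidx2 : 2 ≤ D.U.index := by rw [hidxU]; nlinarith
  rcases Nat.lt_or_ge e 3 with he3 | he3
  · obtain rfl : e = 2 := by omega
    have hL := linRange_six D he
    refine ⟨6, dn_six D hlin he (Nat.le_of_dvd (by norm_num) hL), fun h => absurd h (by omega),
      fun _ => Or.inr ⟨le_rfl, ?_⟩, fun h h11 => ?_⟩
    · rw [← Subgroup.card_mul_index D.U, hidxU, hU', mul_comm 24]
      exact Nat.mul_dvd_mul_left _ ((mul_dvd_mul_left 4 hL).trans (by norm_num))
    · calc 5 * 6 ≤ 29 * 11 ^ 1 := by norm_num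
        _ ≤ 29 * q ^ (N - 2) := Nat.mul_le_mul_left _
          ((Nat.pow_le_pow_left h11 1).trans (Nat.pow_le_pow_right (by omega) (by omega)))
  have hpow : ∀ b k, 11 ≤ q → b ≤ q → k ≤ N - 2 → b ^ k ≤ q ^ (N - 2) := fun b k h11 hb hk =>
    (Nat.pow_le_pow_left hb k).trans (Nat.pow_le_pow_right (by omega) hk)
  rcases Nat.lt_or_ge e 6 with he6 | he6
  · interval_cases e
    · -- `e = 3`
      have hL := linRange_sl2 D Nat.prime_three he
      refine ⟨73, hgen 216 73 (by rw [hidxU]; norm_num at hL ⊢; omega) (by norm_num) hidx2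
        (by norm_num), fun h => absurd h (by omega), fun h => absurd h (by omega), fun _ h11 => ?_⟩
      have h13 : 13 ≤ q := by
        have := hdiv 3 Nat.prime_three dvd_rfl
        rcases Nat.lt_or_ge q 13 with h | h
        · interval_cases q
          · omega
          · exact absurd hq (by decide)
        · exact h
      have := hpow 13 1 h11 h13 (by omega)
      omega
    · -- `e = 4`
      have hL := linRange_sixteen D (by rw [he]; norm_num)
      refine ⟨385, hgen 1152 385 (by rw [hidxU]; norm_num; omega) (by norm_num) hidx2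
        (by norm_num), fun h => absurd h (by omega), fun h => absurd h (by omega), fun _ h11 => ?_⟩
      have := hpow 11 2 h11 h11 (by omega)
      omega
    · -- `e = 5`
      have hL := linRange_sl2 D (by norm_num) he
      refine ⟨1001, hgen 3000 1001 (by rw [hidxU]; norm_num at hL ⊢; omega) (by norm_num) hidx2
        (by norm_num), fun h => absurd h (by omega), fun h => absurd h (by omega), fun _ h11 => ?_⟩
      have := hpow 11 3 h11 h11 (by omega)
      omega
  -- `e ≥ 6`
  have hL := linRange_general D (by omega) he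
  refine ⟨D.U.index / 2 + 1, hgen D.U.index (D.U.index / 2 + 1) le_rfl ?_ hidx2 (by omega),
    fun h => absurd h (by omega), fun h => absurd h (by omega), fun _ h11 => ?_⟩
  · have h1 : D.U.index + 1 ≤ 2 * (D.U.index / 2 + 1) := by omega
    nlinarith
  · have h1 := hpow 11 (e - 2) h11 h11 (by omega)
    have h2 := seven_pow_le' e he6
    have h3 : 3 * D.U.index ≤ e ^ 7 := by
      rw [hidxU]
      calc 3 * (e ^ 2 * Nat.card D.linRange) = e ^ 2 * (3 * Nat.card D.linRange) := by ring
        _ ≤ e ^ 2 * e ^ 5 := Nat.mul_le_mul_left _ hL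
        _ = _ := by ring
    omega

end Cfsg.Agent.SolvDense
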