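import Cfsg.Agent.SolvDense.Eval
import Mathlib.FieldTheory.Fixed
import Mathlib.GroupTheory.PGroup

/-!
Primitive soluble groups with a central element of large prime order.
-/

set_option autoImplicit false
set_option linter.style.haveILetI false
set_option linter.unusedSectionVars false

namespace Cfsg.Agent.SolvDense

open BaseSize SolvBound Polynomial

theorem sq_le_pow : ∀ j, 1 ≤ j → j ^ 2 ≤ 98 ^ (j - 1) := by
  intro j hj
  induction j, hj using Nat.le_induction with
  | base => norm_num
  | succ j hj ih =>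
    rw [show j + 1 - 1 = j - 1 + 1 by omega, pow_succ 98]
    nlinarith

theorem seven_le_pow : ∀ e, 2 ≤ e → e ^ 7 ≤ 3 * 98 ^ (e - 1) := by
  intro e he
  induction e, he using Nat.le_induction with
  | base => norm_num
  | succ e he ih =>
    have h1 : (e + 1) ^ 7 * 2 ^ 7 ≤ e ^ 7 * 3 ^ 7 := by
      rw [← mul_pow, ← mul_pow]
      exact Nat.pow_le_pow_left (by omega) 7
    rw [show e + 1 - 1 = e - 1 + 1 by omega, pow_succ 98]
    norm_num at h1 ⊢
    omega

theorem fourteen_le_pow : ∀ e, 96 ≤ e → e ^ 14 ≤ 2 ^ e := by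
  intro e he
  induction e, he using Nat.le_induction with
  | base => norm_num
  | succ e he ih =>
    have h1 : (e + 1) ^ 14 * 96 ^ 14 ≤ e ^ 14 * 97 ^ 14 := by
      rw [← mul_pow, ← mul_pow]
      exact Nat.pow_le_pow_left (by omega) 14
    rw [pow_succ 2]
    norm_num at h1 ⊢
    omega

theorem four_le_pow : ∀ d, 16 ≤ d → d ^ 4 ≤ 2 ^ d := by
  intro d hd
  induction d, hd using Nat.le_induction with
  | base => norm_num
  | succ d hd ih =>
    have h1 : (d + 1) ^ 4 * 16 ^ 4 ≤ d ^ 4 * 17 ^ 4 := by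
      rw [← mul_pow, ← mul_pow]
      exact Nat.pow_le_pow_left (by omega) 4
    rw [pow_succ 2]
    norm_num at h1 ⊢
    omega

theorem four_le_pow' : ∀ d, 1 ≤ d → d ^ 4 ≤ 16 ^ (d - 1) := by
  intro d hd
  induction d, hd using Nat.le_induction with
  | base => norm_num
  | succ d hd ih =>
    have h1 : (d + 1) ^ 4 ≤ d ^ 4 * 16 := by
      calc (d + 1) ^ 4 ≤ (2 * d) ^ 4 := Nat.pow_le_pow_left (by omega) 4
        _ = _ := by ring
    rw [show d + 1 - 1 = d - 1 + 1 by omega, pow_succ 16]
    omega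

theorem big_le_pow {d e : ℕ} (hd : 1 ≤ d) (he : 1 ≤ e) (h : 97 ≤ d ∨ 96 ≤ e) :
    d ^ 4 * e ^ 14 ≤ 2 ^ (d * e) := by
  rcases h with h | h
  · have h1 := four_le_pow d (by omega)
    have h2 : e ^ 14 ≤ 2 ^ (d * (e - 1)) := by
      calc e ^ 14 ≤ (2 ^ (e - 1)) ^ 14 := Nat.pow_le_pow_left (by
            have := Nat.lt_two_pow_self (n := e - 1); omega) _
        _ ≤ (2 ^ (e - 1)) ^ d := Nat.pow_le_pow_right (Nat.two_pow_pos _) (by omega)
        _ = _ := by rw [← pow_mul, mul_comm]
    calc d ^ 4 * e ^ 14 ≤ 2 ^ d * 2 ^ (d * (e - 1)) := Nat.mul_le_mul h1 h2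
      _ = _ := by
        rw [← pow_add]
        congr 1
        conv_rhs => rw [show e = e - 1 + 1 by omega, mul_add, mul_one, add_comm]
  · have h1 := fourteen_le_pow e h
    have h2 : d ^ 4 ≤ 2 ^ ((d - 1) * e) := by
      calc d ^ 4 ≤ 16 ^ (d - 1) := four_le_pow' d hd
        _ = 2 ^ (4 * (d - 1)) := by rw [pow_mul]; norm_num
        _ ≤ _ := Nat.pow_le_pow_right (by norm_num) (by rw [mul_comm]; exact Nat.mul_le_mul_left _ (by omega))
    calc d ^ 4 * e ^ 14 ≤ 2 ^ ((d - 1) * e) * 2 ^ e := Nat.mul_le_mul h2 h1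
      _ = _ := by
        rw [← pow_add]
        congr 1
        conv_rhs => rw [show d = d - 1 + 1 by omega, add_mul, one_mul]

/-- A fixed-point structure: an automorphism of order `p` preserving a pairing on a group of
order `e²` has `p ≤ e + 1`. -/
theorem prime_le_succ {W U : Type} [CommGroup W] [Finite W] [CommGroup U] [Finite U] [IsCyclic U]
    (P : Pairing W U) {n : ℕ} (hn : Squarefree n) (hexp : ∀ w : W, w ^ n = 1) {e p : ℕ}
    (he : Nat.card W = e ^ 2) (hp : p.Prime) (σ : MulAut W) (hσp : σ ^ p = 1) (hσ1 : σ ≠ 1)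
    (hσ : ∀ x y, P.ω (σ x) (σ y) = P.ω x y) : p ≤ e + 1 := by
  classical
  haveI := Fact.mk hp
  have he0 : 0 < e := by
    rcases Nat.eq_zero_or_pos e with rfl | h
    · exact absurd he (by rw [zero_pow two_ne_zero]; exact Nat.card_pos.ne')
    · exact h
  by_cases hpW : p ∣ Nat.card W
  · rw [he] at hpW
    exact (Nat.le_of_dvd he0 (hp.dvd_of_dvd_pow hpW)).trans (Nat.le_succ e)
  let δ : W →* W := MonoidHom.mk' (fun w => σ w * w⁻¹) fun a b => by
    show σ (a * b) * (a * b)⁻¹ = σ a * a⁻¹ * (σ b * b⁻¹)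
    rw [map_mul, mul_inv]; exact mul_mul_mul_comm _ _ _ _
  let M := δ.range
  have hiter : ∀ (i : ℕ) (w x : W), σ w = w * x → σ x = x → (σ ^ i) w = w * x ^ i := by
    intro i w x hw hx
    induction i with
    | zero => rw [pow_zero, pow_zero, mul_one]; rfl
    | succ i ih => rw [pow_succ', MulAut.mul_apply, ih, map_mul, map_pow, hw, hx, pow_succ',
        mul_assoc]
  have hfix : ∀ x ∈ M, σ x = x → x = 1 := by
    rintro _ ⟨w, rfl⟩ hx
    set x := δ w with hxdef
    have hw : σ w = w * x := by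
      show σ w = w * (σ w * w⁻¹)
      rw [mul_comm (σ w), mul_inv_cancel_left]
    have h1 := hiter p w x hw hx
    rw [hσp, MulAut.one_apply, left_eq_mul] at h1
    by_contra hx1
    exact hpW ((orderOf_eq_prime h1 hx1) ▸ orderOf_dvd_natCard x)
  have hperp : ∀ x ∈ P.perp M, σ x = x := by
    intro x hx
    have hx' := P.mem_perp.mp hx
    have : x⁻¹ * σ.symm x = 1 := P.nondeg _ fun w => by
      have h1 := hx' _ ⟨w, rfl⟩
      change P.ω x (σ w * w⁻¹) = 1 at h1
      rw [map_mul, map_inv, mul_inv_eq_one] at h1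
      have h2 := hσ (σ.symm x) w
      rw [MulEquiv.apply_symm_apply] at h2
      rw [map_mul, map_inv, MonoidHom.mul_apply, MonoidHom.inv_apply, ← h2, h1, inv_mul_cancel]
    have h3 : σ.symm x = x := (inv_mul_eq_one.mp this).symm
    conv_lhs => rw [← h3]
    exact σ.apply_symm_apply x
  have hM : M ⊓ P.perp M = ⊥ := by
    rw [Subgroup.eq_bot_iff_forall]
    exact fun x hx => hfix x hx.1 (hperp x hx.2)
  obtain ⟨f, hf⟩ := Pairing.exists_sq hn _ M (P.restrict hM) (fun w => Subtype.ext (hexp w)) rfl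
  have hinvM : ∀ x ∈ M, σ x ∈ M := by
    rintro _ ⟨w, rfl⟩
    exact ⟨σ w, by show σ (σ w) * (σ w)⁻¹ = σ (σ w * w⁻¹); rw [map_mul, map_inv]⟩
  let A := Subgroup.zpowers σ
  have hA : ∀ a ∈ A, ∀ x ∈ M, a x ∈ M := by
    intro a ha x hx
    obtain ⟨i, rfl⟩ := (Submonoid.mem_powers_iff _ _).mp (mem_powers_iff_mem_zpowers.mpr ha)
    induction i with
    | zero => rw [pow_zero]; exact hx
    | succ i ih =>
      rw [pow_succ', MulAut.mul_apply]
      exact hinvM _ (ih (pow_mem (Subgroup.mem_zpowers σ) i))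
  letI : MulAction A M :=
    { smul := fun a x => ⟨(a : MulAut W) x, hA a a.2 x x.2⟩
      one_smul := fun _ => rfl
      mul_smul := fun _ _ _ => rfl }
  have hAp : IsPGroup p A := IsPGroup.of_card (n := 1) (by
    rw [Nat.card_zpowers, orderOf_eq_prime hσp hσ1, pow_one])
  have hmod := hAp.card_modEq_card_fixedPoints M
  have hfp : Nat.card (MulAction.fixedPoints A M) = 1 := by
    rw [Nat.card_eq_one_iff_unique]
    refine ⟨⟨fun a b => ?_⟩, ⟨⟨1, fun a => Subtype.ext (map_one (a : MulAut W))⟩⟩⟩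
    have h : ∀ a : MulAction.fixedPoints A M, ((a : M) : W) = 1 := fun a =>
      hfix _ a.1.2 (congrArg Subtype.val (a.2 ⟨σ, Subgroup.mem_zpowers σ⟩))
    exact Subtype.ext (Subtype.ext ((h a).trans (h b).symm))
  rw [hfp, hf] at hmod
  have hf1 : f ≠ 1 := by
    intro h
    rw [h, one_pow, Subgroup.card_eq_one] at hf
    exact hσ1 (MulEquiv.ext fun w => mul_inv_eq_one.mp (Subgroup.mem_bot.mp (hf ▸ ⟨w, rfl⟩ : δ w ∈ (⊥ : Subgroup W))))
  have hf0 : 0 < f := by
    rcases Nat.eq_zero_or_pos f with rfl | h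
    · exact absurd hf (by rw [zero_pow two_ne_zero]; exact Nat.card_pos.ne')
    · exact h
  have hfe : f ≤ e := by
    refine (Nat.pow_le_pow_iff_left two_ne_zero).mp ?_
    rw [← hf, ← he]
    exact Subgroup.card_le_card_group M
  have hd : p ∣ f ^ 2 - 1 := (Nat.modEq_iff_dvd' (Nat.one_le_pow _ _ hf0)).mp hmod.symm
  rw [show f ^ 2 - 1 = (f + 1) * (f - 1) by rw [← Nat.sq_sub_sq, one_pow]] at hd
  rcases hp.dvd_mul.mp hd with h | h
  · have := Nat.le_of_dvd (by omega) h; omega
  · have := Nat.le_of_dvd (by omega) h; omega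

variable {V : Type} [AddCommGroup V] [Finite V]

/-- The bound for a piece: `|X| ≤ c k(X)` with `c |Val z| ≤ |V|`. -/
def CB (z : (AddMonoid.End V)ˣ) (X : Subgroup (AddMonoid.End V)ˣ) : Prop :=
  ∃ c, Dn X c ∧ c * Nat.card (Val (z : AddMonoid.End V)) ≤ Nat.card V

set_option maxHeartbeats 1000000 in
/-- **Primitive groups with a central element of order `p`.** -/
theorem prim_central [Nontrivial V] {p : ℕ} (hp : p.Prime) (hp97 : 97 ≤ p)
    {X : Subgroup (AddMonoid.End V)ˣ} (hsol : Group.IsSolvable X) (hirr : Irr X)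
    (hno : NoDecomp X) {z : (AddMonoid.End V)ˣ} (hzX : z ∈ X)
    (hzc : ∀ g ∈ X, g * z = z * g) (hzp : z ^ p = 1) (hz1 : z ≠ 1) : CB z X := by
  classical
  haveI := finite_End V
  haveI := Fact.mk hp
  obtain ⟨v₀, hv₀⟩ := exists_ne (0 : V)
  have hcE : ∀ g ∈ X, Commute (g : AddMonoid.End V) (z : AddMonoid.End V) := fun g hg =>
    congrArg Units.val (hzc g hg)
  have hinj : ∀ a ∈ Val (z : AddMonoid.End V), ∀ b ∈ Val (z : AddMonoid.End V),
      a v₀ = b v₀ → a = b := by
    rintro _ ⟨P, rfl⟩ _ ⟨Q, rfl⟩ h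
    by_contra hne
    refine hv₀ (val_injective hirr hcE (a := (aeval (z : AddMonoid.End V) (P - Q) : AddMonoid.End V))
      ⟨_, rfl⟩ ?_ ?_)
    · rw [map_sub]; exact sub_ne_zero.mpr hne
    · rw [map_sub, map_zero]
      exact sub_eq_zero.mpr h
  let ev : Val (z : AddMonoid.End V) → V := fun a => (a : AddMonoid.End V) v₀
  have hev : Function.Injective ev := fun a b h => Subtype.ext (hinj _ a.2 _ b.2 h)
  by_cases hsurj : Function.Surjective ev
  · -- `V` is one-dimensional over the values: `X` is commutative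
    refine ⟨1, Dn.of_comm fun g g' => ?_, by rw [one_mul]; exact Nat.card_le_card_of_injective ev hev⟩
    have hlin : ∀ g : X, ∃ a ∈ Val (z : AddMonoid.End V),
        ((g : (AddMonoid.End V)ˣ) : AddMonoid.End V) = a := by
      intro g
      obtain ⟨⟨a, ha⟩, e⟩ := hsurj (((g : (AddMonoid.End V)ˣ) : AddMonoid.End V) v₀)
      refine ⟨a, ha, DFunLike.ext _ _ fun v => ?_⟩
      obtain ⟨⟨b, hb⟩, rfl⟩ := hsurj v
      obtain ⟨P, rfl⟩ := ha
      obtain ⟨Q, rfl⟩ := hb
      have h1 := DFunLike.congr_fun (commute_eval (hcE g g.2) Q).eq v₀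
      have h2 := DFunLike.congr_fun (congrArg (aeval (z : AddMonoid.End V)) (mul_comm Q P)) v₀
      rw [map_mul, map_mul] at h2
      simp only [AddMonoid.End.coe_mul, Function.comp_apply] at h1 h2
      simp only [ev] at e ⊢
      rw [h1, ← e, h2]
    obtain ⟨a, ⟨P, rfl⟩, ea⟩ := hlin g
    obtain ⟨b, ⟨Q, rfl⟩, eb⟩ := hlin g'
    refine Subtype.ext (Units.ext ?_)
    rw [Subgroup.coe_mul, Subgroup.coe_mul, Units.val_mul, Units.val_mul, ea, eb, ← map_mul,
      ← map_mul, mul_comm]
  -- two independent vectors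
  obtain ⟨v₁, hv₁⟩ := not_forall.mp hsurj
  have hsq : Nat.card (Val (z : AddMonoid.End V)) ^ 2 ≤ Nat.card V := by
    rw [sq, ← Nat.card_prod]
    refine Nat.card_le_card_of_injective
      (fun ab => (ab.1 : AddMonoid.End V) v₀ + (ab.2 : AddMonoid.End V) v₁) ?_
    rintro ⟨⟨a, P, rfl⟩, ⟨b, Q, rfl⟩⟩ ⟨⟨a', P', rfl⟩, ⟨b', Q', rfl⟩⟩ h
    simp only at h
    have h0 : (aeval (z : AddMonoid.End V) (P - P') : AddMonoid.End V) v₀ +
        (aeval (z : AddMonoid.End V) (Q - Q') : AddMonoid.End V) v₁ = 0 := by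
      rw [map_sub, map_sub]
      show (_ - _) + (_ - _) = (0 : V)
      rw [← sub_eq_zero.mpr h]
      exact (add_sub_add_comm _ _ _ _).symm
    have hb : (aeval (z : AddMonoid.End V) (Q - Q') : AddMonoid.End V) = 0 := by
      by_contra hne
      set b := (aeval (z : AddMonoid.End V) (Q - Q') : AddMonoid.End V) with hbdef
      have hbi := val_injective hirr hcE (a := b) ⟨_, rfl⟩ hne
      let m : Val (z : AddMonoid.End V) → Val (z : AddMonoid.End V) := fun c =>
        ⟨b * c, (Q - Q') * c.2.choose, by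
          show aeval (z : AddMonoid.End V) ((Q - Q') * c.2.choose) = b * (c : AddMonoid.End V)
          rw [map_mul]; exact congrArg (fun w => b * w) c.2.choose_spec⟩
      have hm : Function.Injective m := fun c c' hcc => Subtype.ext (DFunLike.ext _ _ fun v => hbi
        (DFunLike.congr_fun (congrArg Subtype.val hcc) v))
      obtain ⟨c, hc⟩ := (Finite.injective_iff_surjective.mp hm)
        ⟨aeval (z : AddMonoid.End V) (P' - P), _, rfl⟩
      apply hv₁
      refine ⟨c, hbi ?_⟩
      have h1 := DFunLike.congr_fun (congrArg Subtype.val hc) v₀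
      show b ((c : AddMonoid.End V) v₀) = b v₁
      refine Eq.trans h1 ?_
      show (aeval (z : AddMonoid.End V) (P' - P) : AddMonoid.End V) v₀ = b v₁
      rw [← neg_sub P P', map_neg]
      exact (neg_eq_of_add_eq_zero_right h0)
    rw [hb] at h0
    have ha : (aeval (z : AddMonoid.End V) (P - P') : AddMonoid.End V) = 0 := by
      by_contra hne
      refine hv₀ (val_injective hirr hcE ⟨_, rfl⟩ hne ?_)
      rw [map_zero]
      simpa using h0
    rw [map_sub, sub_eq_zero] at ha hb
    exact Prod.ext (Subtype.ext ha) (Subtype.ext hb)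
  -- the maximal primitive group
  haveI : Nonempty {K : Subgroup (AddMonoid.End V)ˣ // X ≤ K ∧ Group.IsSolvable K} :=
    ⟨⟨X, le_rfl, hsol⟩⟩
  obtain ⟨⟨K, hXK, hK⟩, hmax⟩ := Finite.exists_max
    (fun K : {K : Subgroup (AddMonoid.End V)ˣ // X ≤ K ∧ Group.IsSolvable K} => Nat.card K.1)
  obtain ⟨k, _, _, _, ⟨S⟩⟩ := exists_semi hK (irr_mono hXK hirr) (noDecomp_mono hXK hno)
    fun K' hle hK' => (Subgroup.eq_of_le_of_card_ge hle (hmax ⟨K', hXK.trans hle, hK'⟩)).ge
  haveI := hK
  let sys : Sys K :=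
    { lin := S.lin
      U := S.U
      lin_normal := MonoidHom.normal_ker _
      U_normal := S.U_normal
      U_le := by rintro _ ⟨c, rfl⟩; exact S.mem_lin.mpr (S.σ_sc c)
      central := by rintro g hg _ ⟨c, rfl⟩; exact S.sc_comm (S.mem_lin.mp hg) c
      max_abelian := fun N hN hab hU x hx => S.max_abelian N hN hab (fun c => hU ⟨c, rfl⟩) x hx
      cyclic := isCyclic_of_surjective S.sc.rangeRestrict S.sc.rangeRestrict_surjective }
  obtain ⟨D, hD⟩ := sys.exists_BD hK
  have hlin : D.lin = S.lin := congrArg Sys.lin hD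
  have hDU : D.U = S.U := congrArg Sys.U hD
  haveI := D.cyclic
  haveI : Finite kˣ := inferInstance
  haveI : Finite (k ≃+* k) := Finite.of_injective _ DFunLike.coe_injective
  haveI : Module.Finite k V := Module.Finite.of_finite
  obtain ⟨q, d, hq, hd, hQ, haut⟩ := card_ringAut_le (k := k)
  have hVc : Nat.card V = (q ^ d) ^ Module.finrank k V := by
    rw [Module.natCard_eq_pow_finrank (K := k), hQ]
  have hWn : Nat.card D.W ≤ Module.finrank k V ^ 2 := by
    let ρ : K → Module.End k V := fun g =>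
      if h : S.σ g = 1 then
        { toFun := fun v => g • v
          map_add' := smul_add g
          map_smul' := fun c v => by
            rw [S.smul_smul', h]; rfl }
      else 0
    have hρ : ∀ g ∈ D.B, ∀ v, ρ g v = g • v := fun g hg v => by
      have h : S.σ g = 1 := S.mem_lin.mp (hlin ▸ D.B_le_lin hg)
      simp only [ρ, dif_pos h]
      rfl
    refine D.card_W_le ρ (fun x hx y hy => LinearMap.ext fun v => ?_) (fun x hx h => ?_)
      (fun u => ?_) (fun u hu h => ?_)
    · rw [Module.End.mul_apply, hρ _ hy, hρ _ hx, hρ _ (mul_mem hx hy), mul_smul]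
    · have := LinearMap.congr_fun h v₀
      rw [hρ x hx, LinearMap.zero_apply] at this
      exact hv₀ ((smul_eq_zero_iff_eq x).mp this)
    · obtain ⟨c, hc⟩ : (u : K) ∈ S.U := hDU ▸ u.2
      refine ⟨(c : k), LinearMap.ext fun v => ?_⟩
      rw [hρ _ (D.U_le_B u.2), ← hc, S.sc_smul]
      rfl
    · refine S.faithful u fun v => ?_
      rw [← hρ u (D.U_le_B hu), h]
      rfl
  set n := Module.finrank k V
  have hn : 1 ≤ n := Module.finrank_pos
  obtain ⟨e, he⟩ := D.exists_sq
  have hen : e ≤ n := by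
    rw [he] at hWn
    exact (Nat.pow_le_pow_iff_left two_ne_zero).mp hWn
  have he1 : 1 ≤ e := by
    rcases Nat.eq_zero_or_pos e with rfl | h
    · exact absurd he (by rw [zero_pow two_ne_zero]; exact Nat.card_pos.ne')
    · exact h
  -- the linear part
  have hlinc : ∃ c, Dn D.lin c ∧ 3 * c ≤ 3 * e ^ 7 ∧ (e = 1 → c ≤ 1) ∧ (2 ≤ e → 3 * c ≤ e ^ 7) := by
    refine ⟨Nat.card D.W * Nat.card D.linRange, dn_lin D le_rfl, ?_⟩
    rcases Nat.lt_or_ge e 2 with he2 | he2
    · have h1 := linRange_one D (show e = 1 by omega) he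
      rw [h1, he, show e = 1 by omega]
      norm_num
    · have h1 := linRange_general D he2 he
      have : 3 * (Nat.card D.W * Nat.card D.linRange) ≤ e ^ 7 := by
        rw [he]
        calc 3 * (e ^ 2 * Nat.card D.linRange) = e ^ 2 * (3 * Nat.card D.linRange) := by ring
          _ ≤ e ^ 2 * e ^ 5 := Nat.mul_le_mul_left _ h1
          _ = _ := by ring
      exact ⟨by omega, fun h => absurd h (by omega), fun _ => this⟩
  obtain ⟨cl, hcl, hcl7, hcl1, hcl2⟩ := hlinc
  let z' : K := ⟨z, hXK hzX⟩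
  have hz'p : z' ^ p = 1 := Subtype.ext hzp
  by_cases hzU : z' ∈ D.U
  · -- `z` is a scalar
    obtain ⟨ω, hω⟩ : z' ∈ S.U := hDU ▸ hzU
    let Y : Subgroup K := Subgroup.centralizer ({z'} : Set K)
    let T0 : Subgroup (k ≃+* k) := Y.map S.σ
    haveI : Fintype T0 := Fintype.ofFinite T0
    let F : Subfield k := FixedPoints.subfield T0 k
    have hωF : (ω : k) ∈ F := by
      rintro ⟨_, g, hg, rfl⟩
      show S.σ g (ω : k) = ω
      have h := Subgroup.mem_centralizer_singleton_iff.mp hg
      rw [← hω] at h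
      have h' := mul_right_cancel ((S.mul_sc g ω).symm.trans h)
      exact congrArg Units.val (S.sc_injective h')
    haveI : FaithfulSMul T0 k := ⟨fun {a b} h => Subtype.ext (RingEquiv.ext h)⟩
    have hj : Nat.card k = Nat.card F ^ Nat.card T0 := by
      rw [Module.natCard_eq_pow_finrank (K := F) (V := k), Nat.card_eq_fintype_card (α := T0)]
      congr 1
      exact FixedPoints.finrank_eq_card T0 k
    set j := Nat.card T0 with hjdef
    set f := Nat.card F with hfdef
    have hω1 : ω ≠ 1 := fun h => hz1 (congrArg Subtype.val (show z' = 1 by rw [← hω, h, map_one]))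
    have hωp : ω ^ p = 1 := S.sc_injective (by rw [map_pow, hω, hz'p, map_one])
    have hpf : p + 1 ≤ f := by
      let ω' : Fˣ := Units.mk0 ⟨(ω : k), hωF⟩ fun h => ω.ne_zero (congrArg Subtype.val h)
      have ho : orderOf ω' = p := orderOf_eq_prime
        (Units.ext (Subtype.ext (by simpa [ω'] using congrArg Units.val hωp)))
        fun h => hω1 (Units.ext (congrArg (fun w : Fˣ => ((w : F) : k)) h))
      have h1 := Nat.le_of_dvd Nat.card_pos (ho ▸ orderOf_dvd_natCard ω')
      rw [Nat.card_units] at h1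
      have : 0 < Nat.card F := Nat.card_pos
      omega
    have hval : Nat.card (Val (z : AddMonoid.End V)) ≤ f := by
      have hzeq : ∀ v, (z : AddMonoid.End V) v = (ω : k) • v := fun v => by
        rw [← S.sc_smul, hω]
        rfl
      have hev : ∀ (P : ℤ[X]) (v : V),
          (aeval (z : AddMonoid.End V) P : AddMonoid.End V) v = (aeval (ω : k) P : k) • v := by
        intro P
        induction P using Polynomial.induction_on' with
        | add P Q hP hQ =>
          intro v
          rw [map_add, map_add, add_smul, ← hP, ← hQ]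
          rfl
        | monomial m a =>
          intro v
          rw [aeval_monomial, aeval_monomial, AddMonoid.End.coe_mul, Function.comp_apply,
            algebraMap_int_eq, algebraMap_int_eq, eq_intCast, eq_intCast,
            AddMonoid.End.intCast_apply]
          have hpow : ∀ i, ((z : AddMonoid.End V) ^ i) v = (ω : k) ^ i • v := by
            intro i
            induction i with
            | zero => rw [pow_zero, pow_zero, one_smul]; rfl
            | succ i ih =>
              rw [pow_succ', AddMonoid.End.coe_mul, Function.comp_apply, ih, hzeq, smul_smul,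
                pow_succ']
          rw [hpow, mul_smul, ← Int.cast_smul_eq_zsmul k]
      refine Nat.card_le_card_of_injective
        (fun a : Val (z : AddMonoid.End V) => (⟨aeval (ω : k) a.2.choose, ?_⟩ : F)) ?_
      · induction a.2.choose using Polynomial.induction_on' with
        | add P Q hP hQ => rw [map_add]; exact add_mem hP hQ
        | monomial m a =>
          rw [aeval_monomial, algebraMap_int_eq, eq_intCast]
          exact mul_mem (intCast_mem F a) (pow_mem hωF m)
      · intro a b h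
        refine Subtype.ext ?_
        rw [← a.2.choose_spec, ← b.2.choose_spec]
        refine DFunLike.ext _ _ fun v => ?_
        rw [hev, hev]
        exact congrArg (fun w : F => (w : k) • v) h
    -- `Dn Y`
    have hlinY : D.lin ≤ Y := fun g hg => Subgroup.mem_centralizer_singleton_iff.mpr
      (D.central g hg z' hzU)
    have hidx : (D.lin.subgroupOf Y).index = j := by
      have h1 : D.lin.subgroupOf Y = (S.σ.comp Y.subtype).ker := by
        ext g
        rw [Subgroup.mem_subgroupOf, hlin]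
        exact S.mem_lin
      rw [h1, Subgroup.index_ker, hjdef]
      congr 1
      rw [MonoidHom.range_comp, Subgroup.range_subtype]
    have hY : Dn Y (cl * j ^ 2) := by
      rw [← hidx]
      exact Dn.of_subgroup _ (hcl.congr (Subgroup.subgroupOfEquivOfLe hlinY).symm)
    refine ⟨cl * j ^ 2, hY.comap ((Subgroup.inclusion hXK).codRestrict Y fun g =>
      Subgroup.mem_centralizer_singleton_iff.mpr (Subtype.ext (hzc g g.2))) ?_, ?_⟩
    · intro a b h
      exact Subgroup.inclusion_injective hXK (congrArg Subtype.val h)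
    have hj1 : 1 ≤ j := Nat.card_pos
    have hf98 : 98 ≤ f := by omega
    have hVf : f ^ (j * e) ≤ Nat.card V := by
      rw [hVc, ← hQ, hj, ← pow_mul]
      exact Nat.pow_le_pow_right (by omega) (Nat.mul_le_mul_left _ hen)
    have hje : 1 ≤ j * e := Nat.mul_pos hj1 he1
    have hsplit : f ^ (j * e) = f ^ (j * e - 1) * f := by
      rw [← pow_succ]; congr 1; omega
    refine le_trans ?_ hVf
    rw [hsplit]
    refine Nat.mul_le_mul ?_ hval
    rcases Nat.lt_or_ge e 2 with he2 | he2
    · obtain rfl : e = 1 := by omega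
      rw [mul_one]
      calc cl * j ^ 2 ≤ 1 * j ^ 2 := Nat.mul_le_mul_right _ (hcl1 rfl)
        _ ≤ 98 ^ (j - 1) := by rw [one_mul]; exact sq_le_pow j hj1
        _ ≤ _ := Nat.pow_le_pow_left hf98 _
    · refine Nat.le_of_mul_le_mul_left (c := 3) ?_ (by norm_num)
      calc 3 * (cl * j ^ 2) = 3 * cl * j ^ 2 := by ring
        _ ≤ 3 * 98 ^ (e - 1) * 98 ^ (j - 1) :=
          Nat.mul_le_mul ((hcl2 he2).trans (seven_le_pow e he2)) (sq_le_pow j hj1)
        _ = 3 * 98 ^ (e - 1 + (j - 1)) := by rw [pow_add, mul_assoc]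
        _ ≤ 3 * 98 ^ (j * e - 1) := by
          refine Nat.mul_le_mul_left _ (Nat.pow_le_pow_right (by norm_num) ?_)
          have : (j - 1) * 1 ≤ (j - 1) * e := Nat.mul_le_mul_left _ he1
          have : j * e = (j - 1) * e + e := by
            conv_lhs => rw [show j = j - 1 + 1 by omega, add_mul, one_mul]
          omega
        _ ≤ _ := Nat.mul_le_mul_left _ (Nat.pow_le_pow_left hf98 _)
  · -- `z` is not a scalar
    have hbig : 97 ≤ d ∨ 96 ≤ e := by
      by_cases hσ : S.σ z' = 1
      · right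
        have hzlin : z' ∈ D.lin := hlin ▸ S.mem_lin.mpr hσ
        suffices p ≤ e + 1 by omega
        by_cases hact : D.act z' = 1
        · have hzB := D.mem_B_of_act hzlin hact
          have hw : ((⟨z', hzB⟩ : D.B) : D.W) ≠ 1 := fun h =>
            hzU (Subgroup.mem_subgroupOf.mp ((QuotientGroup.eq_one_iff (N := D.UB) _).mp h))
          have ho : orderOf ((⟨z', hzB⟩ : D.B) : D.W) = p := orderOf_eq_prime (by
            rw [← QuotientGroup.mk_pow, show (⟨z', hzB⟩ : D.B) ^ p = 1 from Subtype.ext hz'p,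
              QuotientGroup.mk_one]) hw
          have h2 : p ∣ e ^ 2 := he ▸ ho ▸ orderOf_dvd_natCard _
          have := Nat.le_of_dvd (by omega) (hp.dvd_of_dvd_pow h2)
          omega
        · exact prime_le_succ D.pairing D.hn D.pow_eq_one he hp (D.act z')
            (by rw [← map_pow, hz'p, map_one]) hact (D.pairing_act hzlin)
      · left
        have ho : orderOf (S.σ z') = p := orderOf_eq_prime (by rw [← map_pow, hz'p, map_one]) hσ
        have h2 := Nat.le_of_dvd Nat.card_pos (ho ▸ orderOf_dvd_natCard (S.σ z'))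
        omega
    have hidx : D.lin.index ≤ d := by
      rw [hlin, Semi.lin, Subgroup.index_ker]
      exact (Subgroup.card_le_card_group _).trans haut
    have hK' : Dn K (e ^ 7 * d ^ 2) := (Dn.of_subgroup D.lin hcl).mono
      (Nat.mul_le_mul (by omega) (Nat.pow_le_pow_left hidx 2))
    refine ⟨_, hK'.comap (Subgroup.inclusion hXK) (Subgroup.inclusion_injective hXK), ?_⟩
    refine (Nat.pow_le_pow_iff_left two_ne_zero).mp ?_
    rw [mul_pow]
    refine (Nat.mul_le_mul ?_ hsq).trans_eq (sq (Nat.card V)).symm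
    calc (e ^ 7 * d ^ 2) ^ 2 = d ^ 4 * e ^ 14 := by ring
      _ ≤ 2 ^ (d * e) := big_le_pow hd he1 hbig
      _ ≤ q ^ (d * e) := Nat.pow_le_pow_left hq.two_le _
      _ ≤ _ := by
        rw [hVc, ← pow_mul]
        exact Nat.pow_le_pow_right hq.pos (Nat.mul_le_mul_left _ hen)

end Cfsg.Agent.SolvDense
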